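import Cfsg.Agent.H53.Weil.Main

/-!
Exactly four irreducible characters of degree `(q^n ± 1)/2`, and the gap after them.
-/

set_option autoImplicit false

namespace Cfsg.Agent.H53.Weil

open Cfsg.Agent.Symplectic Cfsg.Agent.CharBasic
open scoped Matrix

noncomputable section

variable {n : ℕ} {F : Type*} [Field F] [Fintype F]

local notation "Sp" => Matrix.symplecticGroup (Fin n) F

/-- the irreducible characters of degree `k` -/
abbrev DegSet (n : ℕ) (F : Type*) [Field F] [Fintype F] (k : ℕ) : Type _ :=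
  {χ : Cfsg.IrrCharacter ↥(Matrix.symplecticGroup (Fin n) F) //
    (χ : ↥(Matrix.symplecticGroup (Fin n) F) → ℂ) 1 = (k : ℂ)}

theorem degree_lt (hn : 2 ≤ n) (hq : 3 ≤ Fintype.card F) {k : ℕ}
    (hk : 2 * k ≤ Fintype.card F ^ n + 1) :
    2 * (Fintype.card F + 1) * k <
      (Fintype.card F ^ n - 1) * (Fintype.card F ^ n - Fintype.card F) := by
  have ha' : Fintype.card F * Fintype.card F ≤ Fintype.card F ^ n := by
    rw [← sq]; exact Nat.pow_le_pow_right (by omega) hn
  revert hk ha' hq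
  generalize Fintype.card F ^ n = a
  generalize Fintype.card F = q
  intro hq hk ha
  obtain ⟨u, rfl⟩ : ∃ u, q = u + 3 := ⟨q - 3, by omega⟩
  obtain ⟨v, hv⟩ : ∃ v, a = (u + 3) * (u + 3) + v := ⟨a - (u + 3) * (u + 3), by omega⟩
  have e1 : a - 1 = u * u + 6 * u + 8 + v := by rw [hv]; ring_nf; omega
  have e2 : a - (u + 3) = u * u + 5 * u + 6 + v := by rw [hv]; ring_nf; omega
  rw [e1, e2]
  calc 2 * (u + 3 + 1) * k = (u + 4) * (2 * k) := by ring
    _ ≤ (u + 4) * ((u + 3) * (u + 3) + v + 1) := Nat.mul_le_mul_left _ (hv ▸ hk)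
    _ < (u * u + 6 * u + 8 + v) * (u * u + 5 * u + 6 + v) := by nlinarith

theorem two_cases {R : Type*} [One R] {x y c : R} (hx : x = 1 ∨ x = c) (hy : y = 1 ∨ y = c)
    (hxy : x = 1 ↔ y = 1) : x = y := by
  rcases hx with e | e
  · rw [e, hxy.mp e]
  · rcases hy with e' | e'
    · rw [e', hxy.mpr e']
    · rw [e, e']

variable (hn : 2 ≤ n) (hodd : Odd (Fintype.card F))

include hn hodd

theorem three_le : 3 ≤ Fintype.card F := by
  have := Fintype.one_lt_card (α := F)
  obtain ⟨r, hr⟩ := hodd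
  omega

theorem eq_one_of_trivial {k : ℕ} (ρ : Representation ℂ Sp (Fin k → ℂ)) (hirr : ρ.IsIrreducible)
    (h : ∀ g, ρ g = 1) : k = 1 := by
  haveI := nontrivial_of_isIrreducible ρ (V := Fin k → ℂ)
  obtain ⟨v, hv⟩ := _root_.exists_ne (0 : Fin k → ℂ)
  rcases subrep_cases ρ hirr (Submodule.span ℂ {v}) (fun g w hw => by rw [h g]; exact hw) with hb | ht
  · exact absurd (Submodule.span_singleton_eq_bot.mp hb) hv
  · have := finrank_span_singleton (K := ℂ) hv
    rw [ht, finrank_top, Module.finrank_fin_fun] at this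
    exact this

theorem small_or_large {k : ℕ} (ρ : Representation ℂ Sp (Fin k → ℂ)) (hirr : ρ.IsIrreducible)
    (hk1 : k ≠ 1) :
    (Fintype.card F ^ n - 1) * (Fintype.card F ^ n - Fintype.card F) ≤
        2 * (Fintype.card F + 1) * k ∨
      (Small ρ ∧ (∃ g, ρ g ≠ 1) ∧ (2 * k = Fintype.card F ^ n - 1 ∨ 2 * k = Fintype.card F ^ n + 1)) := by
  by_cases hd : (Fintype.card F ^ n - 1) * (Fintype.card F ^ n - Fintype.card F) ≤
      2 * (Fintype.card F + 1) * k
  · exact Or.inl hd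
  refine Or.inr ?_
  have hs : Small ρ := small_of_finrank ρ (by omega) (three_le hn hodd) (two_ne_zero_of_odd_card hodd)
    (by rw [Module.finrank_fin_fun]; omega)
  have hnt : ∃ g, ρ g ≠ 1 := by
    by_contra h
    push_neg at h
    exact hk1 (eq_one_of_trivial hn hodd ρ hirr h)
  refine ⟨hs, hnt, ?_⟩
  have := small_dim hn hodd ρ hirr hs hnt
  rwa [Module.finrank_fin_fun] at this

theorem deg_data {k : ℕ} (hk : 2 * k ≤ Fintype.card F ^ n + 1) (hk1 : k ≠ 1) {d : F}
    (hd : ¬ IsSquare d) (i₀ : Fin n) (χ : DegSet n F k) :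
    ∃ (ρ : Representation ℂ Sp (Fin k → ℂ)) (a : F) (δ : ℂ) (m : Fin k → ℂ),
      ρ.IsIrreducible ∧ ρ.character = χ.1.1 ∧ (a = 1 ∨ a = d) ∧ (δ = 1 ∨ δ = -1) ∧ m ≠ 0 ∧
        Gen ρ i₀ a m ∧ ∀ v, ρ (lEl (-1 : GL (Fin n) F)) v = δ • v := by
  obtain ⟨l, ρ, hirr, hχ⟩ := χ.1.2
  have hl : l = k := by
    have h := χ.2
    rw [← hχ, Representation.char_one, Module.finrank_fin_fun] at h
    exact_mod_cast h
  subst hl
  rcases small_or_large hn hodd ρ hirr hk1 with h | ⟨hs, hnt, -⟩
  · exact absurd h (not_le.mpr (degree_lt hn (three_le hn hodd) hk))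
  obtain ⟨a, m, ha, hm, H⟩ := exists_gen hn hodd hd ρ hirr hs hnt i₀
  obtain ⟨δ, hδ, hδv⟩ := exists_parity ρ hirr
  exact ⟨ρ, a, δ, m, hirr, hχ, ha, hδ, hm, H, hδv⟩

theorem exists_nonsquare' : ∃ d : F, ¬ IsSquare d :=
  FiniteField.exists_nonsquare (fun h => two_ne_zero_of_odd_card hodd (by
    have := ringChar.charP F; rw [h] at this; exact CharTwo.two_eq_zero))

theorem two_le_deg [DecidableEq F] {s : ℂ} (hs : s * s = 1) {k : ℕ}
    (hk : 2 * k ≤ Fintype.card F ^ n + 1) (hk1 : 2 ≤ k)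
    (hfr : Module.finrank ℂ (parSpace n F s) = k) : 2 ≤ Nat.card (DegSet n F k) := by
  have h2 := two_ne_zero_of_odd_card hodd
  obtain ⟨d, hd⟩ := exists_nonsquare' hn hodd (F := F)
  have hd0 : d ≠ 0 := fun h => hd (by rw [h]; exact IsSquare.zero)
  let e : parSpace n F s ≃ₗ[ℂ] (Fin k → ℂ) :=
    LinearEquiv.ofFinrankEq _ _ (by rw [hfr, Module.finrank_fin_fun])
  haveI : Nontrivial (parSpace n F s) := Module.nontrivial_of_finrank_pos (R := ℂ) (by omega)
  haveI := weilPart_irreducible (n := n) (F := F) h2 hs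
  let ρ := repConj e (weilPart n F h2 s)
  have hρ : ρ.IsIrreducible := isIrreducible_of_equiv (repConjEquiv e (weilPart n F h2 s))
  let ρ' := twistRep (Units.mk0 d hd0) ρ
  have hρ' : ρ'.IsIrreducible := twistRep_irreducible _ ρ hρ
  have hne : ρ.character ≠ ρ'.character := by
    intro hEq
    let i₀ : Fin n := ⟨0, by omega⟩
    rcases small_or_large hn hodd ρ hρ (by omega) with h | ⟨hs', hnt, -⟩
    · exact absurd h (not_le.mpr (degree_lt hn (three_le hn hodd) hk))
    obtain ⟨a, m, -, hm, H⟩ := exists_gen hn hodd hd ρ hρ hs' hnt i₀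
    obtain ⟨m', hm', hm'0⟩ := iso_weight hEq.symm h2 (twistRep_wt (Units.mk0 d hd0) ρ H.wt) hm
    obtain ⟨t, ht, -⟩ := H.weight_mem (a' := d * a) (mul_ne_zero hd0 H.ha)
      (by rw [gen_top hρ H hm]; exact Submodule.mem_top) hm' hm'0
    exact hd ⟨t, mul_right_cancel₀ H.ha (by rw [← ht]; ring)⟩
  have hdeg : ∀ σ : Representation ℂ Sp (Fin k → ℂ), σ.character 1 = (k : ℂ) := fun σ => by
    rw [Representation.char_one, Module.finrank_fin_fun]
  let χ₁ : DegSet n F k := ⟨⟨ρ.character, k, ρ, hρ, rfl⟩, hdeg ρ⟩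
  let χ₂ : DegSet n F k := ⟨⟨ρ'.character, k, ρ', hρ', rfl⟩, hdeg ρ'⟩
  haveI : Finite (DegSet n F k) := by
    obtain ⟨d, hd⟩ := exists_nonsquare' hn hodd (F := F)
    choose r a δ m hirr hchar ha hδ hm H hδv using
      deg_data hn hodd hk (by omega) hd ⟨0, by omega⟩
    classical
    refine Finite.of_injective (fun χ => (decide (a χ = 1), decide (δ χ = 1))) fun χ χ' h => ?_
    simp only [Prod.mk.injEq, decide_eq_decide] at h
    have haa : a χ = a χ' := by
      rcases ha χ with e | e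
      · rw [e, (h.1.mp e)]
      · rcases ha χ' with e' | e'
        · rw [e', h.1.mpr e']
        · rw [e, e']
    have hdd : δ χ = δ χ' := by
      rcases hδ χ with e | e
      · rw [e, (h.2.mp e)]
      · rcases hδ χ' with e' | e'
        · rw [e', h.2.mpr e']
        · rw [e, e']
    refine Subtype.ext (Subtype.ext ?_)
    rw [← hchar χ, ← hchar χ']
    exact character_eq (hirr χ) (hirr χ') (H χ) (haa ▸ H χ') (hm χ) (hm χ') (hδv χ) (hdd ▸ hδv χ')
  have hne' : χ₁ ≠ χ₂ := fun h => hne (congrArg (fun χ : DegSet n F k => χ.1.1) h)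
  haveI : Nontrivial (DegSet n F k) := ⟨χ₁, χ₂, hne'⟩
  exact Finite.one_lt_card

/-- exactly two irreducible characters of each of the two degrees -/
theorem deg_counts {h : ℕ} (hh : 2 * h + 1 = Fintype.card F ^ n) :
    Nat.card (DegSet n F h) = 2 ∧ Nat.card (DegSet n F (h + 1)) = 2 := by
  classical
  have h2 := two_ne_zero_of_odd_card hodd
  have hq := three_le hn hodd
  have h9 : 9 ≤ Fintype.card F ^ n :=
    le_trans (by norm_num) (le_trans (Nat.pow_le_pow_left hq 2) (Nat.pow_le_pow_right (by omega) hn))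
  have hfn : Module.finrank ℂ (parSpace n F (-1)) = h := by
    rw [finrank_parSpace_neg h2]; omega
  have hfp : Module.finrank ℂ (parSpace n F 1) = h + 1 := by
    rw [finrank_parSpace_one h2, hfn]
  have hlo := two_le_deg hn hodd (s := -1) (by norm_num) (k := h) (by omega) (by omega) hfn
  have hhi := two_le_deg hn hodd (s := 1) (by norm_num) (k := h + 1) (by omega) (by omega) hfp
  obtain ⟨d, hd⟩ := exists_nonsquare' hn hodd (F := F)
  let i₀ : Fin n := ⟨0, by omega⟩
  choose r a δ m hirr hchar ha hδ hm H hδv using deg_data hn hodd (k := h) (by omega) (by omega) hd i₀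
  choose r' a' δ' m' hirr' hchar' ha' hδ' hm' H' hδv' using
    deg_data hn hodd (k := h + 1) (by omega) (by omega) hd i₀
  haveI : Finite (DegSet n F h) := Nat.finite_of_card_ne_zero (by omega)
  haveI : Finite (DegSet n F (h + 1)) := Nat.finite_of_card_ne_zero (by omega)
  let code : DegSet n F h ⊕ DegSet n F (h + 1) → Bool × Bool :=
    Sum.elim (fun χ => (decide (a χ = 1), decide (δ χ = 1)))
      (fun χ => (decide (a' χ = 1), decide (δ' χ = 1)))
  have hinj : Function.Injective code := by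
    rintro (χ | χ) (ψ | ψ) hc <;>
      simp only [code, Sum.elim_inl, Sum.elim_inr, Prod.mk.injEq, decide_eq_decide] at hc
    · have e1 := two_cases (ha χ) (ha ψ) hc.1
      have e2 := two_cases (hδ χ) (hδ ψ) hc.2
      refine congrArg Sum.inl (Subtype.ext (Subtype.ext ?_))
      rw [← hchar χ, ← hchar ψ]
      exact character_eq (hirr χ) (hirr ψ) (H χ) (e1 ▸ H ψ) (hm χ) (hm ψ) (hδv χ) (e2 ▸ hδv ψ)
    · exfalso
      have e1 := two_cases (ha χ) (ha' ψ) hc.1
      have e2 := two_cases (hδ χ) (hδ' ψ) hc.2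
      have := congrFun (character_eq (hirr χ) (hirr' ψ) (H χ) (e1 ▸ H' ψ) (hm χ) (hm' ψ) (hδv χ)
        (e2 ▸ hδv' ψ)) 1
      rw [Representation.char_one, Representation.char_one, Module.finrank_fin_fun,
        Module.finrank_fin_fun, Nat.cast_inj] at this
      omega
    · exfalso
      have e1 := two_cases (ha' χ) (ha ψ) hc.1
      have e2 := two_cases (hδ' χ) (hδ ψ) hc.2
      have := congrFun (character_eq (hirr' χ) (hirr ψ) (H' χ) (e1 ▸ H ψ) (hm' χ) (hm ψ) (hδv' χ)
        (e2 ▸ hδv ψ)) 1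
      rw [Representation.char_one, Representation.char_one, Module.finrank_fin_fun,
        Module.finrank_fin_fun, Nat.cast_inj] at this
      omega
    · have e1 := two_cases (ha' χ) (ha' ψ) hc.1
      have e2 := two_cases (hδ' χ) (hδ' ψ) hc.2
      refine congrArg Sum.inr (Subtype.ext (Subtype.ext ?_))
      rw [← hchar' χ, ← hchar' ψ]
      exact character_eq (hirr' χ) (hirr' ψ) (H' χ) (e1 ▸ H' ψ) (hm' χ) (hm' ψ) (hδv' χ)
        (e2 ▸ hδv' ψ)
  have hle := Nat.card_le_card_of_injective code hinj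
  rw [Nat.card_sum, Nat.card_prod, Nat.card_eq_fintype_card (α := Bool), Fintype.card_bool] at hle
  omega

end

end Cfsg.Agent.H53.Weil
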