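import Cfsg.Agent.Symplectic.MinDegree

/-!
Generators of the symplectic group adapted to the Siegel parabolic.
-/

set_option autoImplicit false

namespace Cfsg.Agent.H53.Weil

open Cfsg.Agent.Symplectic
open scoped Matrix

variable {n : ℕ} {F : Type*} [Field F]

local notation "Sp" => Matrix.symplecticGroup (Fin n) F

/-- the Levi element acting by `g` on the second half -/
def lEl (g : GL (Fin n) F) : Sp :=
  ⟨Matrix.fromBlocks ((g⁻¹ : GL (Fin n) F) : Matrix (Fin n) (Fin n) F)ᵀ 0 0 (g : Matrix (Fin n) (Fin n) F),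
    by
      rw [SymplecticGroup.fromBlocks_mem_iff]
      simp⟩

/-- the Weyl element of one coordinate -/
def wEl (i : Fin n) : Sp :=
  ⟨Matrix.fromBlocks (1 - Matrix.single i i 1) (Matrix.single i i 1) (-Matrix.single i i 1)
    (1 - Matrix.single i i 1), by
      rw [SymplecticGroup.fromBlocks_mem_iff]
      simp [Matrix.transpose_sub, sub_mul, mul_sub]⟩

/-- an elementary symmetric matrix -/
def symO (i j : Fin n) (b : F) : symMat n F :=
  ⟨Matrix.single i j b + Matrix.single j i b, by
    rw [mem_symMat, Matrix.IsSymm, Matrix.transpose_add, Matrix.transpose_single,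
      Matrix.transpose_single, add_comm]⟩

theorem uEl_mulVec (X : symMat n F) (u v : Fin n → F) :
    (uEl X : Mat n F) *ᵥ Sum.elim u v = Sum.elim (u + X.1 *ᵥ v) v := by
  simp [uEl, Matrix.fromBlocks_mulVec]

theorem lEl_mulVec (g : GL (Fin n) F) (u v : Fin n → F) :
    (lEl g : Mat n F) *ᵥ Sum.elim u v =
      Sum.elim (((g⁻¹ : GL (Fin n) F) : Matrix (Fin n) (Fin n) F)ᵀ *ᵥ u)
        ((g : Matrix (Fin n) (Fin n) F) *ᵥ v) := by
  simp [lEl, Matrix.fromBlocks_mulVec]

theorem wEl_mulVec (i : Fin n) (u v : Fin n → F) :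
    ((wEl i : Sp) : Mat n F) *ᵥ Sum.elim u v =
      Sum.elim (Function.update u i (v i)) (Function.update v i (-u i)) := by
  simp only [wEl, Matrix.fromBlocks_mulVec, Sum.elim_comp_inl, Sum.elim_comp_inr]
  congr 1 <;>
  · funext k
    simp only [Pi.add_apply, Pi.sub_apply, Matrix.sub_mulVec, Matrix.one_mulVec, Matrix.neg_mulVec,
      Pi.neg_apply, Matrix.single_mulVec, Function.update_apply, one_mul, Pi.zero_apply]
    split_ifs with h <;> simp [*]

/-- elements are determined by their action on pairs -/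
theorem sp_ext_elim {g h : Sp}
    (H : ∀ u v, (g : Mat n F) *ᵥ Sum.elim u v = (h : Mat n F) *ᵥ Sum.elim u v) : g = h :=
  sp_ext fun x => by
    rw [← Sum.elim_comp_inl_inr x]
    exact H _ _

theorem mul_mulVec' (g h : Sp) (x : Fin n ⊕ Fin n → F) :
    ((g * h : Sp) : Mat n F) *ᵥ x = (g : Mat n F) *ᵥ ((h : Mat n F) *ᵥ x) := by
  rw [Submonoid.coe_mul, Matrix.mulVec_mulVec]

theorem lEl_mul (g h : GL (Fin n) F) : lEl g * lEl h = lEl (g * h) :=
  sp_ext_elim fun u v => by
    simp only [mul_mulVec', lEl_mulVec, Matrix.mulVec_mulVec, mul_inv_rev, Units.val_mul,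
      Matrix.transpose_mul]

theorem lEl_one : lEl (1 : GL (Fin n) F) = 1 :=
  Subtype.ext (by simp [lEl])

theorem uEl_lEl (X : symMat n F) (g : GL (Fin n) F) :
    uEl X * lEl g =
      lEl g * uEl ⟨(g : Matrix (Fin n) (Fin n) F)ᵀ * X.1 * (g : Matrix (Fin n) (Fin n) F), by
        simpa using congX_mem (g : Matrix (Fin n) (Fin n) F)ᵀ X⟩ :=
  sp_ext_elim fun u v => by
    simp only [mul_mulVec', lEl_mulVec, uEl_mulVec, Matrix.mulVec_add, Matrix.mulVec_mulVec]
    congr 2
    rw [← Matrix.mul_assoc, ← Matrix.mul_assoc, ← Matrix.transpose_mul, Units.mul_inv,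
      Matrix.transpose_one, Matrix.one_mul]

/-- the negative of the identity -/
theorem lEl_neg_one_mulVec (x : Fin n ⊕ Fin n → F) :
    (lEl (-1 : GL (Fin n) F) : Mat n F) *ᵥ x = -x := by
  rw [← Sum.elim_comp_inl_inr x, lEl_mulVec]
  funext k
  rcases k with k | k <;> simp [Matrix.neg_mulVec]

theorem lEl_neg_one_comm (g : Sp) : lEl (-1 : GL (Fin n) F) * g = g * lEl (-1 : GL (Fin n) F) :=
  sp_ext fun x => by
    rw [mul_mulVec', mul_mulVec', lEl_neg_one_mulVec, lEl_neg_one_mulVec, Matrix.mulVec_neg]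

theorem symO_mulVec (i j : Fin n) (b : F) (v : Fin n → F) :
    (symO i j b).1 *ᵥ v = Pi.single i (b * v j) + Pi.single j (b * v i) := by
  rw [symO, Matrix.add_mulVec, Matrix.single_mulVec, Matrix.single_mulVec]
  congr 1 <;> (funext k; simp [Pi.single_apply, Function.update_apply])

theorem symO_neg (i j : Fin n) (b : F) : symO i j (-b) = -symO i j b :=
  Subtype.ext (by
    show Matrix.single i j (-b) + Matrix.single j i (-b) = -(Matrix.single i j b + Matrix.single j i b)
    ext k l; simp [Matrix.single_apply]; split_ifs <;> ring)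

/-- every symmetric matrix is a sum of elementary ones -/
theorem symMat_induction (h2 : (2 : F) ≠ 0) {P : symMat n F → Prop} (h0 : P 0)
    (hadd : ∀ X Y, P X → P Y → P (X + Y)) (hO : ∀ i j b, P (symO i j b)) (X : symMat n F) : P X := by
  classical
  have hX : X = ∑ p : Fin n × Fin n, symO p.1 p.2 (X.1 p.1 p.2 / 2) := by
    apply Subtype.ext
    rw [AddSubmonoidClass.coe_finsetSum]
    ext a b
    simp only [symO, Matrix.sum_apply, Matrix.add_apply, Finset.sum_add_distrib, Matrix.single_apply,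
      Fintype.sum_prod_type]
    rw [Finset.sum_eq_single a (fun c _ hc => by simp [hc]) (by simp),
      Finset.sum_eq_single b (fun c _ hc => by simp [hc]) (by simp),
      Finset.sum_eq_single b (fun c _ hc => by simp [hc]) (by simp),
      Finset.sum_eq_single a (fun c _ hc => by simp [hc]) (by simp)]
    rw [(mem_symMat.mp X.2).apply a b]
    simp [add_halves_eq_self h2]
  rw [hX]
  exact Finset.sum_induction _ P hadd h0 (fun p _ => hO _ _ _)
where
  add_halves_eq_self {x : F} (h2 : (2 : F) ≠ 0) : x / 2 + x / 2 = x := by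
    field_simp; ring

/-- the transvection of `GL_n` -/
def tGL (i j : Fin n) (h : i ≠ j) (b : F) : GL (Fin n) F :=
  ⟨Matrix.transvection i j b, Matrix.transvection i j (-b),
    by rw [Matrix.transvection_mul_transvection_same i j h]; simp,
    by rw [Matrix.transvection_mul_transvection_same i j h]; simp⟩

theorem tGL_mulVec (i j : Fin n) (h : i ≠ j) (b : F) (v : Fin n → F) :
    (tGL i j h b : Matrix (Fin n) (Fin n) F) *ᵥ v = v + Pi.single i (b * v j) := by
  show Matrix.transvection i j b *ᵥ v = _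
  simp only [Matrix.transvection]
  rw [Matrix.add_mulVec, Matrix.one_mulVec, Matrix.single_mulVec]
  congr 1

theorem tGL_inv_mulVec (i j : Fin n) (h : i ≠ j) (b : F) (u : Fin n → F) :
    ((tGL i j h b)⁻¹ : GL (Fin n) F).1ᵀ *ᵥ u = u - Pi.single j (b * u i) := by
  show (Matrix.transvection i j (-b))ᵀ *ᵥ u = _
  simp only [Matrix.transvection]
  rw [Matrix.transpose_add, Matrix.transpose_one, Matrix.transpose_single,
    Matrix.add_mulVec, Matrix.one_mulVec, Matrix.single_mulVec, sub_eq_add_neg]
  congr 1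
  funext k; by_cases hk : k = j <;> simp [hk]

/-- an invertible diagonal matrix -/
def dGL (c : Fin n → Fˣ) : GL (Fin n) F :=
  ⟨Matrix.diagonal fun k => (c k : F), Matrix.diagonal fun k => ((c k)⁻¹ : Fˣ),
    by rw [Matrix.diagonal_mul_diagonal]; simp,
    by rw [Matrix.diagonal_mul_diagonal]; simp⟩

theorem lEl_dGL_mulVec (c : Fin n → Fˣ) (u v : Fin n → F) :
    (lEl (dGL c) : Mat n F) *ᵥ Sum.elim u v =
      Sum.elim (fun k => ((c k)⁻¹ : Fˣ) * u k) (fun k => (c k : F) * v k) := by
  rw [lEl_mulVec]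
  congr 1
  · funext k
    show (Matrix.diagonal fun k => (((c k)⁻¹ : Fˣ) : F))ᵀ.mulVec u k = _
    rw [Matrix.diagonal_transpose, Matrix.mulVec_diagonal]
  · funext k
    show (Matrix.diagonal fun k => (c k : F)).mulVec v k = _
    rw [Matrix.mulVec_diagonal]

/-- `diag(c)` in one coordinate -/
def hUnit (i : Fin n) (c : Fˣ) : Fin n → Fˣ := Function.update 1 i c

theorem wEl_sq (i : Fin n) : wEl i * wEl i = (lEl (dGL (hUnit i (-1))) : Sp) :=
  sp_ext_elim fun u v => by
    simp only [mul_mulVec', wEl_mulVec, lEl_dGL_mulVec]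
    funext k
    rcases k with k | k <;> by_cases h : k = i <;> simp [h, hUnit, Function.update_apply]

/-- the Weyl element commutes with symmetric matrices vanishing in its row -/
theorem wEl_uEl_comm (i : Fin n) (X : symMat n F) (hX : ∀ k, X.1 k i = 0) :
    wEl i * uEl X = uEl X * wEl i :=
  sp_ext_elim fun u v => by
    have hX' : ∀ w : Fin n → F, (X.1 *ᵥ w) i = 0 := fun w => by
      have hrow : ∀ l, X.1 i l = 0 := fun l => by rw [← (mem_symMat.mp X.2).apply i l]; exact hX l
      simp [Matrix.mulVec, dotProduct, hrow]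
    have hX'' : X.1 *ᵥ Function.update v i (-u i) = X.1 *ᵥ v := by
      funext k
      simp only [Matrix.mulVec, dotProduct]
      refine Finset.sum_congr rfl fun l _ => ?_
      by_cases h : l = i
      · subst h; simp [hX]
      · simp [h]
    simp only [mul_mulVec', wEl_mulVec, uEl_mulVec, Pi.add_apply, hX', hX'']
    funext k
    rcases k with k | k <;> by_cases h : k = i <;> simp [h, hX']

theorem symO_col (i j k : Fin n) (hi : i ≠ k) (hj : j ≠ k) (b : F) (l : Fin n) :
    (symO i j b).1 l k = 0 := by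
  simp [symO, Matrix.single_apply, hi, hj]

/-- the Weyl element turns an off diagonal symmetric matrix into a transvection -/
theorem wEl_uEl_off (i j : Fin n) (h : i ≠ j) (b : F) :
    wEl i * uEl (symO i j b) = lEl (tGL i j h (-b)) * wEl i :=
  sp_ext_elim fun u v => by
    simp only [mul_mulVec', wEl_mulVec, uEl_mulVec, lEl_mulVec, tGL_mulVec, tGL_inv_mulVec,
      symO_mulVec]
    funext k
    rcases k with k | k <;> by_cases h1 : k = i <;> by_cases h2 : k = j <;>
      simp_all [Function.update_apply, Pi.single_apply, Ne.symm h] <;> ring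

/-- and conversely -/
theorem wEl_lEl_off (i j : Fin n) (h : i ≠ j) (b : F) :
    wEl i * lEl (tGL i j h b) = uEl (symO i j b) * wEl i :=
  sp_ext_elim fun u v => by
    simp only [mul_mulVec', wEl_mulVec, uEl_mulVec, lEl_mulVec, tGL_mulVec, tGL_inv_mulVec,
      symO_mulVec]
    funext k
    rcases k with k | k <;> by_cases h1 : k = i <;> by_cases h2 : k = j <;>
      simp_all [Function.update_apply, Pi.single_apply, Ne.symm h] <;> ring

theorem wEl_dGL (i : Fin n) (c : Fin n → Fˣ) :
    wEl i * lEl (dGL c) = lEl (dGL (Function.update c i (c i)⁻¹)) * wEl i :=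
  sp_ext_elim fun u v => by
    simp only [mul_mulVec', wEl_mulVec, lEl_dGL_mulVec]
    funext k
    rcases k with k | k <;> by_cases h : k = i <;> simp [h, Function.update_apply]

theorem wEl_comm (i j : Fin n) : wEl i * wEl j = (wEl j * wEl i : Sp) := by
  by_cases h : i = j
  · rw [h]
  refine sp_ext_elim fun u v => ?_
  simp only [mul_mulVec', wEl_mulVec]
  funext k
  rcases k with k | k <;> by_cases h1 : k = i <;> by_cases h2 : k = j <;>
    simp_all [Function.update_apply, Ne.symm h]

/-- the relation inside one `SL₂` -/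
theorem braid (h2 : (2 : F) ≠ 0) (i : Fin n) (c : Fˣ) :
    lEl (dGL (hUnit i c⁻¹)) * wEl i * uEl (symO i i (-(c : F) / 2)) * wEl i =
      uEl (symO i i ((c : F) / 2)) * wEl i * uEl (symO i i ((c : F)⁻¹ / 2)) :=
  sp_ext_elim fun u v => by
    simp only [mul_mulVec', wEl_mulVec, uEl_mulVec, lEl_dGL_mulVec, symO_mulVec]
    funext k
    rcases k with k | k <;> by_cases h : k = i <;>
      simp [h, hUnit, Function.update_apply, Pi.single_apply] <;> field_simp <;> ring

section generation

variable [Fintype F]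

/-- the group is generated by the Siegel parabolic and one Weyl element -/
theorem generate (h2 : (2 : F) ≠ 0) (i₀ : Fin n) (H : Subgroup Sp) (hu : ∀ X, uEl X ∈ H)
    (hl : ∀ g, lEl g ∈ H) (hw : wEl i₀ ∈ H) : H = ⊤ := by
  classical
  let e : Fin n → F := Pi.single i₀ 1
  -- every non-zero vector is the image of one vector
  have hinr : ∀ u v : Fin n → F, v ≠ 0 → ∃ g ∈ H,
      (g : Mat n F) *ᵥ Sum.elim 0 e = Sum.elim u v := by
    intro u v hv
    obtain ⟨B, hB⟩ := gl_exists_mulVec (φ₀ := e) (φ := v)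
      (fun h => by simpa [e] using congrFun h i₀) hv
    have hBt : IsUnit (B : Matrix (Fin n) (Fin n) F)ᵀ :=
      (Matrix.isUnit_transpose (B : Matrix (Fin n) (Fin n) F)).mpr B.isUnit
    obtain ⟨k, hk⟩ : ∃ k, v k ≠ 0 := Function.ne_iff.mp hv
    let ψ : Fin n → F := Pi.single k (v k)⁻¹
    have hψ : ψ ⬝ᵥ v = 1 := by simp [ψ, hk]
    let X : symMat n F := ⟨Matrix.vecMulVec u ψ + Matrix.vecMulVec ψ u -
        (u ⬝ᵥ v) • Matrix.vecMulVec ψ ψ, by
      rw [mem_symMat, Matrix.IsSymm, Matrix.transpose_sub, Matrix.transpose_add, Matrix.transpose_smul,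
        Matrix.transpose_vecMulVec, Matrix.transpose_vecMulVec, Matrix.transpose_vecMulVec, add_comm]⟩
    refine ⟨uEl X * lEl hBt.unit, H.mul_mem (hu _) (hl _), ?_⟩
    rw [mul_mulVec', lEl_mulVec, IsUnit.unit_spec, Matrix.mulVec_zero, hB, uEl_mulVec, zero_add]
    congr 1
    simp only [X, Matrix.sub_mulVec, Matrix.add_mulVec, Matrix.smul_mulVec,
      Matrix.vecMulVec_mulVec, hψ, MulOpposite.op_one, one_smul]
    simp
  have hall : ∀ x : Fin n ⊕ Fin n → F, x ≠ 0 → ∃ g ∈ H, (g : Mat n F) *ᵥ Sum.elim 0 e = x := by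
    intro x hx
    rw [← Sum.elim_comp_inl_inr x] at hx ⊢
    by_cases hv : x ∘ Sum.inr = 0
    · have hu0 : x ∘ Sum.inl ≠ 0 := fun h => hx (by rw [h, hv]; funext k; rcases k <;> simp)
      obtain ⟨k, hk⟩ := Function.ne_iff.mp hu0
      obtain ⟨B, hB⟩ := gl_exists_mulVec (φ₀ := e) (φ := x ∘ Sum.inl)
        (fun h => by simpa [e] using congrFun h i₀) hu0
      -- move the first half onto the coordinate of the Weyl element
      obtain ⟨g, hg, hge⟩ := hinr 0 e (fun h => by simpa [e] using congrFun h i₀)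
      refine ⟨lEl B⁻¹ * (wEl i₀ * g), H.mul_mem (hl _) (H.mul_mem hw hg), ?_⟩
      rw [mul_mulVec', mul_mulVec', hge, wEl_mulVec, lEl_mulVec, inv_inv, hv]
      congr 1
      · rw [← hB]
        congr 1
        funext l
        by_cases h : l = i₀
        · subst h; simp [e]
        · simp [e, h]
      · have : Function.update e i₀ (-(0 : Fin n → F) i₀) = 0 := by
          funext l
          by_cases h : l = i₀
          · subst h; simp
          · simp [e, h]
        rw [this, Matrix.mulVec_zero]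
    · exact hinr _ _ hv
  rw [eq_top_iff, ← closure_TSet n F, Subgroup.closure_le]
  rintro _ ⟨x, c, rfl⟩
  by_cases hx : x = 0
  · have : T x c = 1 := sp_ext fun y => by simp [hx, T_mulVec]
    rw [this]; exact H.one_mem
  -- the transvections at a vector of the first half lie in the Siegel group
  have hbase : ∀ d, T (Sum.elim e 0 : Fin n ⊕ Fin n → F) d ∈ H := by
    intro d
    suffices h : ∃ a, T (Sum.elim e 0 : Fin n ⊕ Fin n → F) d = uEl (symO i₀ i₀ a) by
      obtain ⟨a, ha⟩ := h; rw [ha]; exact hu _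
    refine ⟨d / 2, sp_ext_elim fun u v => ?_⟩
    rw [T_mulVec, uEl_mulVec, symO_mulVec, sympForm_eq]
    have hd : d / 2 * v i₀ + d / 2 * v i₀ = d * v i₀ := by field_simp; ring
    funext k
    rcases k with k | k
    · by_cases h : k = i₀
      · subst h
        simp [e, Pi.single_apply, hd]
      · simp [e, h, Pi.single_apply]
    · simp
  obtain ⟨g, hg, hge⟩ := hall x hx
  obtain ⟨g', hg', hge'⟩ := hall (Sum.elim e 0) (fun h => by
    simpa [e] using congrFun h (Sum.inl i₀))
  have h1 : ((g * g'⁻¹ : Sp) : Mat n F) *ᵥ Sum.elim e 0 = x := by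
    rw [mul_mulVec', ← hge', ← mul_mulVec' g'⁻¹, inv_mul_cancel, Submonoid.coe_one,
      Matrix.one_mulVec, hge]
  rw [← h1, ← T_conj]
  exact H.mul_mem (H.mul_mem (H.mul_mem hg (H.inv_mem hg')) (hbase c))
    (H.inv_mem (H.mul_mem hg (H.inv_mem hg')))

end generation

end Cfsg.Agent.H53.Weil
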