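import Cfsg.Agent.Symplectic.Weil

/-!
Both parity parts of the Weil representation are irreducible.
-/

set_option autoImplicit false

namespace Cfsg.Agent.H53.Weil

open Cfsg.Agent.Symplectic
open scoped Matrix

noncomputable section

variable {n : ℕ} {F : Type*} [Field F] [Fintype F] [DecidableEq F]

/-- a parity part of the Weil representation -/
def weilPart (n : ℕ) (F : Type*) [Field F] [Fintype F] [DecidableEq F] (h2 : (2 : F) ≠ 0) (s : ℂ) :
    Representation ℂ (Matrix.symplecticGroup (Fin n) F) (parSpace n F s) where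
  toFun g := resPar s (weilOp h2 g) (weilOp_comm h2 g)
  map_one' := by
    have h := good_unique h2 (good_one h2) (weilOp_good (n := n) (F := F) h2 1)
    refine LinearMap.ext fun f => Subtype.ext ?_
    rw [resPar_apply, h, Matrix.one_mulVec]; rfl
  map_mul' g g' := by
    have h := good_unique h2 (good_mul h2 (weilOp_good h2 g) (weilOp_good h2 g'))
      (weilOp_good h2 (g * g'))
    refine LinearMap.ext fun f => Subtype.ext ?_
    rw [resPar_apply, h, Module.End.mul_apply, resPar_apply, resPar_apply, Matrix.mulVec_mulVec]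

theorem weilPart_commutant (h2 : (2 : F) ≠ 0) {s : ℂ} (hs : s * s = 1) (M : Module.End ℂ (parSpace n F s))
    (hM : ∀ g, weilPart n F h2 s g * M = M * weilPart n F h2 s g) : ∃ c : ℂ, M = c • 1 := by
  let π : (Pt n F → ℂ) →ₗ[ℂ] parSpace n F s :=
    (Matrix.toLin' (parProj n F s)).codRestrict _ fun f => parProj_mem hs f
  let Mt : Op n F := LinearMap.toMatrix' ((parSpace n F s).subtype ∘ₗ M ∘ₗ π)
  have hMt : ∀ x, Mt *ᵥ x = ((M (π x)) : Pt n F → ℂ) := fun x => LinearMap.toMatrix'_mulVec _ x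
  have hcomm : ∀ g, weilOp h2 g * Mt = Mt * weilOp h2 g := by
    intro g
    refine Matrix.ext_of_mulVec_single fun i => ?_
    rw [← Matrix.mulVec_mulVec, ← Matrix.mulVec_mulVec, hMt, hMt]
    have hπ : π (weilOp h2 g *ᵥ Pi.single i 1) = weilPart n F h2 s g (π (Pi.single i 1)) := by
      apply Subtype.ext
      show parProj n F s *ᵥ (weilOp h2 g *ᵥ Pi.single i 1) =
        weilOp h2 g *ᵥ (parProj n F s *ᵥ Pi.single i 1)
      rw [Matrix.mulVec_mulVec, Matrix.mulVec_mulVec]
      congr 1
      simp only [parProj, smul_mul_assoc, mul_smul_comm, add_mul, mul_add, one_mul, mul_one,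
        weilOp_comm h2 g]
    rw [hπ, ← Module.End.mul_apply, ← hM g, Module.End.mul_apply]
    rfl
  have hmem : Mt ∈ Submodule.span ℂ (Set.range (heis (n := n) (F := F))) := heis_span h2 ▸ trivial
  obtain ⟨c, hc⟩ := (Submodule.mem_span_range_iff_exists_fun ℂ).mp hmem
  have hinv : ∀ (g : Matrix.symplecticGroup (Fin n) F) v, c ((g : Mat n F) *ᵥ v) = c v := by
    intro g v
    obtain ⟨hW, hW0, -⟩ := weilOp_good h2 g
    have e : (∑ u, c u • heis ((g : Mat n F) *ᵥ u)) * weilOp h2 g =
        (∑ u, c u • heis u) * weilOp h2 g := by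
      rw [hc, ← hcomm, ← hc, Finset.sum_mul, Finset.mul_sum]
      exact Finset.sum_congr rfl fun u _ => by rw [smul_mul_assoc, mul_smul_comm, hW u]
    have e' := (twine_isUnit h2 hW0 hW).mul_right_cancel e
    rw [← (spEquiv n F g).1.toEquiv.sum_comp (fun u => c u • heis u)] at e'
    have := Fintype.linearIndependent_iff.mp
      ((heis_linearIndependent (n := n) h2).comp _ (spEquiv n F g).1.injective)
      (fun u => c u - c ((g : Mat n F) *ᵥ u)) (by
        simp only [sub_smul, Finset.sum_sub_distrib, sub_eq_zero]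
        exact e') v
    exact (sub_eq_zero.mp this).symm
  obtain ⟨c1, hc1⟩ : ∃ c1, ∀ v : Fin n ⊕ Fin n → F, v ≠ 0 → c v = c1 := by
    by_cases hex : ∃ v : Fin n ⊕ Fin n → F, v ≠ 0
    · obtain ⟨v0, hv0⟩ := hex
      refine ⟨c v0, fun v hv => ?_⟩
      obtain ⟨g, hg⟩ := sp_transitive hv0 hv
      rw [← hg, hinv]
    · exact ⟨0, fun v hv => (hex ⟨v, hv⟩).elim⟩
  have hMt' : Mt = (c 0 - c1) • 1 + c1 • ((Fintype.card F : ℂ) ^ n) • par n F := by
    rw [← sum_heis h2, ← hc, Finset.smul_sum, ← heis_zero,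
      ← Finset.add_sum_erase _ _ (Finset.mem_univ (0 : Fin n ⊕ Fin n → F))]
    rw [← Finset.add_sum_erase _ (fun v => c1 • heis v) (Finset.mem_univ (0 : Fin n ⊕ Fin n → F))]
    rw [← add_assoc, ← add_smul, sub_add_cancel]
    congr 1
    exact Finset.sum_congr rfl fun v hv => by rw [hc1 v (Finset.mem_erase.mp hv).1]
  refine ⟨c 0 - c1 + c1 * (Fintype.card F : ℂ) ^ n * s, LinearMap.ext fun f => Subtype.ext ?_⟩
  have hπf : π f = f := Subtype.ext (parProj_fix hs f.2)
  rw [← congrArg M hπf, ← hMt, hMt']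
  simp only [Matrix.add_mulVec, Matrix.smul_mulVec, Matrix.one_mulVec, mem_parSpace.mp f.2,
    LinearMap.smul_apply, Module.End.one_apply, Submodule.coe_smul]
  module

theorem weilPart_irreducible (h2 : (2 : F) ≠ 0) {s : ℂ} (hs : s * s = 1)
    [Nontrivial (parSpace n F s)] : (weilPart n F h2 s).IsIrreducible :=
  isIrreducible_of_commutant _ (weilPart_commutant h2 hs)

end

end Cfsg.Agent.H53.Weil
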