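import Cfsg.Agent.H53.Weil.Weights

/-!
Representations with weights of rank at most one: the action of one Weyl element and of a point
stabiliser on a weight space.
-/

set_option autoImplicit false

namespace Cfsg.Agent.H53.Weil

open Cfsg.Agent.Symplectic
open scoped Matrix

noncomputable section

variable {n : ℕ} {F : Type*} [Field F] [Fintype F] {V : Type*} [AddCommGroup V] [Module ℂ V]

local notation "Sp" => Matrix.symplecticGroup (Fin n) F

variable {ρ : Representation ℂ (Matrix.symplecticGroup (Fin n) F) V}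

theorem eChar_forall_one {d : F} (h : ∀ t : F, eChar F (d * t) = 1) : d = 0 := by
  by_contra hd
  obtain ⟨t, ht⟩ := eChar_exists_ne hd
  exact ht (h t)

omit [Fintype F] in
theorem tGL_upd (i j : Fin n) (h : i ≠ j) (b : F) (x : Fin n → F) :
    (tGL i j h b : Matrix (Fin n) (Fin n) F) *ᵥ x = Function.update x i (x i + b * x j) := by
  rw [tGL_mulVec]
  funext k
  by_cases hk : k = i <;> simp [hk]

omit [Fintype F] in
theorem dGL_hUnit_mulVec (i : Fin n) (c : Fˣ) (x : Fin n → F) :
    (dGL (hUnit i c) : Matrix (Fin n) (Fin n) F) *ᵥ x = Function.update x i ((c : F) * x i) := by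
  funext k
  show (Matrix.diagonal fun l => ((hUnit i c l : Fˣ) : F)).mulVec x k = _
  rw [Matrix.mulVec_diagonal]
  by_cases hk : k = i <;> simp [hk, hUnit]

/-- the Weyl element and the torus of one coordinate act on a weight vector vanishing there
in the same way in all representations -/
theorem local_action (h2 : (2 : F) ≠ 0) (hs : Small ρ) {a : F} (ha : a ≠ 0) {x : Fin n → F}
    {i j : Fin n} (hij : i ≠ j) (hxi : x i = 0) (hxj : x j ≠ 0) {m : V}
    (hm : m ∈ wtSpace ρ (vv a x)) :
    (∃ κ : ℂ, κ ≠ 0 ∧ ρ (wEl i) m = κ • ∑ b : F, ρ (lEl (tGL i j hij b)) m) ∧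
      ∀ c : Fˣ, ∃ κ : ℂ, ρ (lEl (dGL (hUnit i c))) m = κ • m := by
  classical
  by_cases hm0 : m = 0
  · subst hm0
    exact ⟨⟨1, one_ne_zero, by simp⟩, fun c => ⟨0, by simp⟩⟩
  -- weights along the fibre
  let pt : F → (Fin n → F) := fun t => (tGL i j hij t : Matrix (Fin n) (Fin n) F) *ᵥ x
  have hpt : ∀ t, pt t = Function.update x i (t * x j) := fun t => by
    simp [pt, tGL_upd, hxi]
  have hpt0 : pt 0 = x := by rw [hpt, zero_mul, ← hxi, Function.update_eq_self]
  have hptN : ∀ b t, (tGL i j hij b : Matrix (Fin n) (Fin n) F) *ᵥ pt t = pt (b + t) := by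
    intro b t
    rw [hpt, hpt, tGL_upd, Function.update_self, Function.update_of_ne (Ne.symm hij),
      Function.update_idem]
    congr 1
    ring
  let π : F → Module.End ℂ V := fun t => proj ρ (vv a (pt t))
  have hvinj : ∀ t t', vv a (pt t) = vv a (pt t') → t = t' := by
    intro t t' h
    have h1 := congrFun (congrFun h i) j
    simp only [vv, Matrix.smul_apply, Matrix.vecMulVec_apply, smul_eq_mul, hpt,
      Function.update_self, Function.update_of_ne (Ne.symm hij)] at h1
    exact mul_right_cancel₀ hxj (mul_right_cancel₀ hxj (mul_left_cancel₀ ha h1))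
  have hπmem : ∀ t v, π t v ∈ wtSpace ρ (vv a (pt t)) := fun t v => proj_mem ρ _ v
  -- vectors with the right restricted weight split along the fibre
  have hsplit : ∀ v : V, (∀ X : symMat n F, (∀ k, X.1 k i = 0) →
      ρ (uEl X) v = eChar F (trMap (vv a x) X) • v) → ∑ t, π t v = v := by
    intro v hv
    have hinj : Function.Injective (fun t : F => (⟨vv a (pt t), vv_isSymm _ _⟩ : symMat n F)) :=
      fun t t' h => hvinj t t' (congrArg Subtype.val h)
    conv_rhs => rw [← sum_proj ρ h2 v]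
    refine (Finset.sum_image (f := fun S : symMat n F => proj ρ S.1 v) (s := Finset.univ)
      hinj.injOn).symm.trans ?_
    refine Finset.sum_subset (Finset.subset_univ _) fun S _ hS => ?_
    by_contra hne
    apply hS
    have hSm := proj_mem ρ S.1 v
    obtain ⟨b, y, hby⟩ := hs S.1 _ (mem_symMat.mp S.2) hSm hne
    -- the projection has the restricted weight
    have hres : ∀ X : symMat n F, (∀ k, X.1 k i = 0) →
        eChar F (trMap S.1 X) = eChar F (trMap (vv a x) X) := by
      intro X hX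
      have hcomm : ρ (uEl X) (proj ρ S.1 v) = proj ρ S.1 (ρ (uEl X) v) := by
        rw [proj_apply ρ, proj_apply ρ, map_smul, map_sum]
        congr 1
        refine Finset.sum_congr rfl fun Y _ => ?_
        rw [map_smul, ← Module.End.mul_apply, ← map_mul, ← Module.End.mul_apply, ← map_mul,
          uEl_mul, uEl_mul, add_comm]
      rw [hSm X, hv X hX, map_smul] at hcomm
      exact smul_left_injective ℂ hne hcomm
    have hy : ∀ k l, k ≠ i → l ≠ i → b * y k * y l = a * x k * x l := by
      intro k l hk hl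
      have hd : 2 * (b * y k * y l - a * x k * x l) = 0 := by
        refine eChar_forall_one fun t => ?_
        have h := hres (symO k l t) (fun r => symO_col k l i hk hl t r)
        rw [show trMap S.1 = trMap (vv b y) from by rw [hby]; rfl, trMap_vv_symO, trMap_vv_symO] at h
        rw [show 2 * (b * y k * y l - a * x k * x l) * t = 2 * b * t * y k * y l - 2 * a * t * x k * x l
          by ring, AddChar.map_sub_eq_div, h, div_self (AddChar.val_isUnit _ _).ne_zero]
      exact sub_eq_zero.mp ((mul_eq_zero.mp hd).resolve_left h2)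
    have hjj := hy j j (Ne.symm hij) (Ne.symm hij)
    have hyj : y j ≠ 0 := fun h => by
      rw [h] at hjj; simp [ha, hxj] at hjj
    set lam := y j / x j with hlam
    have hlam0 : lam ≠ 0 := div_ne_zero hyj hxj
    have hb : b * lam ^ 2 = a := by
      rw [hlam]; field_simp; linear_combination hjj
    refine Finset.mem_image.mpr ⟨y i / (lam * x j), Finset.mem_univ _, Subtype.ext ?_⟩
    show vv a (pt (y i / (lam * x j))) = S.1
    rw [hby, hpt]
    have hk : ∀ k, Function.update x i (y i / (lam * x j) * x j) k * lam = y k := by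
      intro k
      by_cases hk : k = i
      · subst hk; rw [Function.update_self]; field_simp
      · rw [Function.update_of_ne hk]
        have hkj := hy k j hk (Ne.symm hij)
        have hb0 : b ≠ 0 := fun h => ha (by rw [← hb, h, zero_mul])
        apply mul_left_cancel₀ (mul_ne_zero hb0 hyj)
        have : y j = lam * x j := by rw [hlam]; field_simp
        rw [this] at hkj ⊢
        linear_combination -hkj + x k * x j * hb
    ext k l
    simp only [vv, Matrix.smul_apply, Matrix.vecMulVec_apply, smul_eq_mul]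
    linear_combination -(Function.update x i (y i / (lam * x j) * x j) k *
      Function.update x i (y i / (lam * x j) * x j) l) * hb + b * y l * hk k +
        b * (Function.update x i (y i / (lam * x j) * x j) k * lam) * hk l
  -- transport along the fibre
  have hπN : ∀ b t v, π (b + t) (ρ (lEl (tGL i j hij b)) v) = ρ (lEl (tGL i j hij b)) (π t v) := by
    intro b t v
    show proj ρ (vv a (pt (b + t))) _ = _
    rw [← hptN, ← vv_conj]
    exact proj_lEl ρ h2 (vv_isSymm _ _) _ _
  have hqe : ∀ t d v, v ∈ wtSpace ρ (vv a (pt t)) →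
      ρ (uEl (symO i i d)) v = eChar F (2 * a * d * (t * x j) * (t * x j)) • v := by
    intro t d v hv
    rw [hv, trMap_vv_symO, hpt, Function.update_self]
  -- the operator on the base point
  let A : V → V := fun v => π 0 (ρ (wEl i) v)
  have hbase : ∀ v, v ∈ wtSpace ρ (vv a x) →
      ρ (wEl i) v = ∑ b, ρ (lEl (tGL i j hij b)) (A v) := by
    intro v hv
    have hN : ∀ b, ρ (lEl (tGL i j hij b)) (ρ (wEl i) v) = ρ (wEl i) v := by
      intro b
      have h := wEl_uEl_off i j hij (-b)
      rw [neg_neg] at h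
      rw [← Module.End.mul_apply, ← map_mul, ← h, map_mul, Module.End.mul_apply, hv, trMap_vv_symO,
        hxi]
      simp
    have hfib : ∀ X : symMat n F, (∀ k, X.1 k i = 0) →
        ρ (uEl X) (ρ (wEl i) v) = eChar F (trMap (vv a x) X) • ρ (wEl i) v := by
      intro X hX
      rw [← Module.End.mul_apply, ← map_mul, ← wEl_uEl_comm i X hX, map_mul, Module.End.mul_apply,
        hv, map_smul]
    conv_lhs => rw [← hsplit _ hfib]
    refine Finset.sum_congr rfl fun t _ => ?_
    have h := hπN t 0 (ρ (wEl i) v)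
    rw [add_zero, hN] at h
    exact h
  have hAmem : ∀ v, A v ∈ wtSpace ρ (vv a x) := fun v => by
    have := hπmem 0 (ρ (wEl i) v)
    rwa [hpt0] at this
  have hπ00 : ∀ v, π 0 (π 0 v) = π 0 v := fun v => proj_of_mem_self ρ (hπmem 0 v)
  have hAN : ∀ b v, v ∈ wtSpace ρ (vv a x) →
      π 0 (ρ (wEl i) (ρ (lEl (tGL i j hij b)) v)) = A v := by
    intro b v hv
    rw [show ρ (wEl i) (ρ (lEl (tGL i j hij b)) v) = ρ (wEl i * lEl (tGL i j hij b)) v by
      rw [map_mul]; rfl, wEl_lEl_off, map_mul, Module.End.mul_apply]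
    conv_lhs => rw [← sum_proj ρ h2 (ρ (wEl i) v)]
    rw [map_sum, map_sum, Finset.sum_eq_single ⟨vv a (pt 0), vv_isSymm _ _⟩]
    · show π 0 (ρ (uEl _) (A v)) = _
      rw [hAmem v, trMap_vv_symO, hxi, map_smul, proj_of_mem_self ρ (hπmem 0 _)]
      simp [A]
    · intro S _ hS
      rw [proj_mem ρ S.1 _ (symO i j b), map_smul]
      show _ • proj ρ _ _ = _
      rw [proj_of_mem_ne ρ h2 (vv_isSymm _ _) (mem_symMat.mp S.2)
        (fun h => hS (Subtype.ext h.symm)) (proj_mem ρ _ _), smul_zero]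
    · simp
  have hAinj : ∀ v, v ∈ wtSpace ρ (vv a x) → A v = 0 → v = 0 := by
    intro v hv h
    have := hbase v hv
    rw [h] at this
    simp only [map_zero, Finset.sum_const_zero] at this
    have h' := congrArg (ρ (wEl i)⁻¹) this
    simpa [← Module.End.mul_apply, ← map_mul] using h'
  have hA_sub : ∀ v w : V, A (v - w) = A v - A w := fun v w => by simp [A]
  have hA_smul : ∀ (r : ℂ) (v : V), A (r • v) = r • A v := fun r v => by simp [A]
  -- the braid relation
  let Gs : F → ℂ := fun c => ∑ b : F, eChar F (-(a * c * (b * x j) * (b * x j)))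
  have hbraid : ∀ (c : Fˣ) v, v ∈ wtSpace ρ (vv a x) →
      Gs c • ρ (lEl (dGL (hUnit i c⁻¹))) (A (A v)) = A v := by
    intro c v hv
    have h := congrArg (fun T : Module.End ℂ V => π 0 (T v))
      (congrArg ρ (braid h2 i c))
    simp only [map_mul, Module.End.mul_apply] at h
    -- right side
    have hR : π 0 (ρ (uEl (symO i i ((c : F) / 2))) (ρ (wEl i) (ρ (uEl (symO i i ((c : F)⁻¹ / 2))) v))) =
        A v := by
      rw [hv, trMap_vv_symO, hxi]
      simp only [mul_zero, AddChar.map_zero_eq_one, one_smul]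
      rw [hbase v hv, map_sum, map_sum, Finset.sum_eq_single 0]
      · have e : A v ∈ wtSpace ρ (vv a (pt 0)) := by rw [hpt0]; exact hAmem v
        have e0 : ρ (lEl (tGL i j hij (0 : F))) (A v) = A v := by
          have : tGL i j hij (0 : F) = 1 := Units.ext (by simp [tGL])
          rw [this, lEl_one, map_one, Module.End.one_apply]
        rw [e0, hqe 0 _ _ e, map_smul, proj_of_mem_self ρ e]
        simp
      · intro b _ hb
        have e : ρ (lEl (tGL i j hij b)) (A v) ∈ wtSpace ρ (vv a (pt b)) :=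
          lEl_mem_vv ρ (hAmem v) _
        rw [hqe b _ _ e, map_smul, proj_of_mem_ne ρ h2 (vv_isSymm _ _) (vv_isSymm _ _)
          (fun h => hb (hvinj _ _ h).symm) e, smul_zero]
      · simp
    rw [hR] at h
    refine Eq.trans ?_ h
    have hconj : ∀ w : V, π 0 (ρ (lEl (dGL (hUnit i c⁻¹))) w) =
        ρ (lEl (dGL (hUnit i c⁻¹))) (π 0 w) := by
      intro w
      have hfix : vv a (pt 0) = (dGL (hUnit i c⁻¹) : Matrix (Fin n) (Fin n) F) * vv a (pt 0) *
          (dGL (hUnit i c⁻¹) : Matrix (Fin n) (Fin n) F)ᵀ := by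
        rw [vv_conj, dGL_hUnit_mulVec, hpt0, hxi, mul_zero, ← hxi, Function.update_eq_self]
      conv_lhs => rw [show π 0 = proj ρ (vv a (pt 0)) from rfl, hfix]
      exact proj_lEl ρ h2 (vv_isSymm _ _) _ _
    rw [hconj, ← map_smul]
    congr 1
    rw [hbase v hv, map_sum, map_sum, map_sum, Finset.sum_smul]
    refine Finset.sum_congr rfl fun b _ => ?_
    have e : ρ (lEl (tGL i j hij b)) (A v) ∈ wtSpace ρ (vv a (pt b)) := lEl_mem_vv ρ (hAmem v) _
    rw [hqe b _ _ e, map_smul, map_smul, hAN b _ (hAmem v)]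
    congr 2
    field_simp
  have hG1 : ∀ v, v ∈ wtSpace ρ (vv a x) → Gs 1 • A v = v := by
    intro v hv
    have h := hbraid 1 v hv
    have h1 : dGL (hUnit i ((1 : Fˣ)⁻¹)) = (1 : GL (Fin n) F) := by
      refine Units.ext ?_
      show Matrix.diagonal _ = (1 : Matrix (Fin n) (Fin n) F)
      rw [inv_one]
      simp [hUnit, ← Matrix.diagonal_one]
    rw [h1, lEl_one, map_one, Module.End.one_apply, Units.val_one] at h
    have : A (Gs 1 • A v - v) = 0 := by rw [hA_sub, hA_smul, h, sub_self]
    exact sub_eq_zero.mp (hAinj _ (Submodule.sub_mem _ (Submodule.smul_mem _ _ (hAmem v)) hv) this)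
  have hg0 : Gs 1 ≠ 0 := fun h => hm0 (by rw [← hG1 m hm, h, zero_smul])
  have hAm : ∀ v, v ∈ wtSpace ρ (vv a x) → A v = (Gs 1)⁻¹ • v := fun v hv => by
    rw [eq_inv_smul_iff₀ hg0]; exact hG1 v hv
  refine ⟨⟨(Gs 1)⁻¹, inv_ne_zero hg0, ?_⟩, fun c => ?_⟩
  · rw [hbase m hm, hAm m hm, Finset.smul_sum]
    simp only [map_smul]
  · have h := hbraid c⁻¹ m hm
    rw [inv_inv, hAm m hm, hA_smul, hAm m hm, map_smul, map_smul, smul_smul, smul_smul] at h
    set H := ρ (lEl (dGL (hUnit i c))) m
    have hne : Gs ↑c⁻¹ * ((Gs 1)⁻¹ * (Gs 1)⁻¹) ≠ 0 := by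
      intro h'
      rw [← mul_assoc] at h'
      rw [h', zero_smul] at h
      exact hm0 ((smul_eq_zero.mp h.symm).resolve_left (inv_ne_zero hg0))
    refine ⟨(Gs ↑c⁻¹ * ((Gs 1)⁻¹ * (Gs 1)⁻¹))⁻¹ * (Gs 1)⁻¹, ?_⟩
    rw [mul_smul, eq_inv_smul_iff₀ hne, ← h, mul_assoc]

/-- the stabiliser of a non-zero vector acts on its weight space by scalars -/
theorem stab_scalar (h2 : (2 : F) ≠ 0) (hs : Small ρ) {a : F} (ha : a ≠ 0) {x : Fin n → F}
    (hx : x ≠ 0) (g : GL (Fin n) F) (hg : (g : Matrix (Fin n) (Fin n) F) *ᵥ x = x) {m : V}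
    (hm : m ∈ wtSpace ρ (vv a x)) : ∃ κ : ℂ, ρ (lEl g) m = κ • m := by
  classical
  let Sc : GL (Fin n) F → Prop := fun k =>
    (k : Matrix (Fin n) (Fin n) F) *ᵥ x = x ∧ ∃ κ : ℂ, ρ (lEl k) m = κ • m
  have hmul : ∀ k l, Sc k → Sc l → Sc (k * l) := by
    rintro k l ⟨hk, κ, hκ⟩ ⟨hl, μ, hμ⟩
    refine ⟨by rw [Units.val_mul, ← Matrix.mulVec_mulVec, hl, hk], μ * κ, ?_⟩
    rw [← lEl_mul, map_mul, Module.End.mul_apply, hμ, map_smul, hκ, smul_smul]
  have hinv : ∀ k, Sc k → Sc k⁻¹ := by
    rintro k ⟨hk, κ, hκ⟩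
    refine ⟨by conv_lhs => rw [← hk, Matrix.mulVec_mulVec, ← Units.val_mul, inv_mul_cancel,
      Units.val_one, Matrix.one_mulVec], κ⁻¹, ?_⟩
    by_cases hm0 : m = 0
    · simp [hm0]
    have h := congrArg (ρ (lEl k⁻¹)) hκ
    rw [← Module.End.mul_apply, ← map_mul, lEl_mul, inv_mul_cancel, lEl_one, map_one,
      Module.End.one_apply, map_smul] at h
    have hκ0 : κ ≠ 0 := fun h' => hm0 (by rw [h, h', zero_smul])
    rw [eq_inv_smul_iff₀ hκ0]
    exact h.symm
  -- homologies fixing the vector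
  have hhom : ∀ (φ d : Fin n → F) (k : GL (Fin n) F), φ ⬝ᵥ x = 0 → φ ⬝ᵥ d ≠ 0 → 1 + φ ⬝ᵥ d ≠ 0 →
      (k : Matrix (Fin n) (Fin n) F) = 1 + Matrix.vecMulVec d φ → Sc k := by
    intro φ d k hφx hs0 hc0 hk
    set s := φ ⬝ᵥ d
    let ψ : Fin n → F := s⁻¹ • φ
    have hψd : ψ ⬝ᵥ d = 1 := by simp [ψ, smul_dotProduct, s, inv_mul_cancel₀ hs0]
    have hψx : ψ ⬝ᵥ x = 0 := by simp [ψ, smul_dotProduct, hφx]
    obtain ⟨i, hi⟩ : ∃ i, ψ i ≠ 0 := by
      by_contra h
      push_neg at h
      rw [show ψ = 0 from funext h, zero_dotProduct] at hψd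
      exact zero_ne_one hψd
    let e : Fin n → F := Pi.single i 1
    obtain ⟨K₀, hK₀⟩ := gl_exists_mulVec (φ₀ := e) (φ := ψ)
      (fun h => by simpa [e] using congrFun h i) (fun h => hi (congrFun h i))
    let d' := (K₀ : Matrix (Fin n) (Fin n) F) *ᵥ d
    have hd'i : d' i = 1 := by
      rw [← hψd, ← hK₀, Matrix.mulVec_transpose, ← Matrix.dotProduct_mulVec]
      simp [e, d']
    let w := d' - e
    have hwi : w i = 0 := by simp [w, hd'i, e]
    let M : GL (Fin n) F :=
      ⟨1 - Matrix.vecMulVec w e, 1 + Matrix.vecMulVec w e,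
        by
          rw [mul_add, mul_one, sub_mul, one_mul, Matrix.vecMulVec_mul_vecMulVec, single_dotProduct,
            hwi]
          simp,
        by
          rw [mul_sub, mul_one, add_mul, one_mul, Matrix.vecMulVec_mul_vecMulVec, single_dotProduct,
            hwi]
          simp⟩
    let K := M * K₀
    have hKd : (K : Matrix (Fin n) (Fin n) F) *ᵥ d = e := by
      show ((1 - Matrix.vecMulVec w e) * (K₀ : Matrix (Fin n) (Fin n) F)) *ᵥ d = e
      rw [← Matrix.mulVec_mulVec, Matrix.sub_mulVec, Matrix.one_mulVec, Matrix.vecMulVec_mulVec,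
        single_dotProduct, show (K₀ : Matrix (Fin n) (Fin n) F) *ᵥ d = d' from rfl, hd'i]
      simp [w]
    have hKrow : (K : Matrix (Fin n) (Fin n) F)ᵀ *ᵥ e = ψ := by
      show ((1 - Matrix.vecMulVec w e) * (K₀ : Matrix (Fin n) (Fin n) F))ᵀ *ᵥ e = ψ
      rw [Matrix.transpose_mul, ← Matrix.mulVec_mulVec, Matrix.transpose_sub, Matrix.transpose_one,
        Matrix.transpose_vecMulVec, Matrix.sub_mulVec, Matrix.one_mulVec, Matrix.vecMulVec_mulVec,
        dotProduct_single, hwi]
      simp [hK₀]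
    let y := (K : Matrix (Fin n) (Fin n) F) *ᵥ x
    have hyi : y i = 0 := by
      rw [← hψx, ← hKrow, Matrix.mulVec_transpose, ← Matrix.dotProduct_mulVec]
      simp [e, y]
    obtain ⟨j, hj⟩ : ∃ j, y j ≠ 0 := by
      by_contra h
      push_neg at h
      apply hx
      have := congrArg (((K⁻¹ : GL (Fin n) F) : Matrix (Fin n) (Fin n) F) *ᵥ ·) (show y = 0 from funext h)
      simpa [y, Matrix.mulVec_mulVec] using this
    have hij : i ≠ j := fun h => hj (h ▸ hyi)
    let c : Fˣ := Units.mk0 (1 + s) hc0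
    obtain ⟨κ, hκ⟩ := (local_action h2 hs ha hij hyi hj (lEl_mem_vv ρ hm K)).2 c
    have hkeq : k = K⁻¹ * dGL (hUnit i c) * K := by
      have hD : (dGL (hUnit i c) : Matrix (Fin n) (Fin n) F) = 1 + s • Matrix.vecMulVec e e := by
        ext r l
        show Matrix.diagonal _ r l = _
        by_cases hrl : r = l
        · subst hrl
          by_cases hr : r = i <;> simp [hr, hUnit, e, c, Matrix.vecMulVec_apply]
        · rw [Matrix.diagonal_apply_ne _ hrl, Matrix.add_apply, Matrix.one_apply_ne hrl, zero_add,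
            Matrix.smul_apply, Matrix.vecMulVec_apply]
          by_cases hr : r = i
          · subst hr; simp [e, Ne.symm hrl]
          · simp [e, hr]
      refine Units.ext ?_
      rw [hk, Units.val_mul, Units.val_mul, hD, mul_add, add_mul, mul_one, Units.inv_mul,
        Matrix.mul_smul, Matrix.smul_mul, Matrix.mul_vecMulVec, Matrix.vecMulVec_mul]
      congr 1
      rw [← Matrix.mulVec_transpose, hKrow, ← hKd, Matrix.mulVec_mulVec, Units.inv_mul,
        Matrix.one_mulVec, ← Matrix.vecMulVec_smul]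
      simp [ψ, smul_smul, mul_inv_cancel₀ hs0]
    refine ⟨by rw [hk, Matrix.add_mulVec, Matrix.one_mulVec, Matrix.vecMulVec_mulVec, hφx]; simp,
      κ, ?_⟩
    rw [hkeq, ← lEl_mul, ← lEl_mul, map_mul, map_mul, Module.End.mul_apply, Module.End.mul_apply, hκ,
      map_smul, ← Module.End.mul_apply, ← map_mul, lEl_mul, inv_mul_cancel, lEl_one, map_one,
      Module.End.one_apply]
  -- functionals as vectors
  have hfun : ∀ f : (Fin n → F) →ₗ[F] F, ∃ φ : Fin n → F, ∀ v, φ ⬝ᵥ v = f v := fun f =>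
    ⟨fun k => f (Pi.single k 1), fun v => by
      conv_rhs => rw [pi_eq_sum_univ' v]
      simp [dotProduct, mul_comm]⟩
  -- fixed vectors grow
  let fix : GL (Fin n) F → Submodule F (Fin n → F) := fun k =>
    LinearMap.eqLocus (Matrix.toLin' (k : Matrix (Fin n) (Fin n) F)) LinearMap.id
  have hfix : ∀ k v, v ∈ fix k ↔ (k : Matrix (Fin n) (Fin n) F) *ᵥ v = v := fun k v => by simp [fix]
  suffices h : ∀ k : GL (Fin n) F, x ∈ fix k → Sc k from (h g ((hfix g x).mpr hg)).2
  intro k
  induction hN : n - Module.finrank F (fix k) using Nat.strong_induction_on generalizing k with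
  | _ N ih =>
    intro hxk
    by_cases htop : ∀ v, v ∈ fix k
    · have h1 : k = 1 := Units.ext (Matrix.ext_of_mulVec_single fun i => by
        rw [(hfix k _).mp (htop _)]; funext r; simp [Matrix.one_apply, Pi.single_apply])
      exact ⟨(hfix k x).mp hxk, 1, by rw [h1, lEl_one, map_one, Module.End.one_apply, one_smul]⟩
    push_neg at htop
    obtain ⟨v, hv⟩ := htop
    set U := fix k
    set w := (k : Matrix (Fin n) (Fin n) F) *ᵥ v
    have hwU : w ∉ U := by
      intro hw
      apply hv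
      rw [hfix]
      have h := (hfix k w).mp hw
      have := congrArg (((k⁻¹ : GL (Fin n) F) : Matrix (Fin n) (Fin n) F) *ᵥ ·) h
      simpa [w, Matrix.mulVec_mulVec] using this
    -- the next step: a product of homologies fixing `U`, moving `w` to `v`
    have step : ∀ (φ d : Fin n → F), (∀ u ∈ U, φ ⬝ᵥ u = 0) → φ ⬝ᵥ d ≠ 0 → 1 + φ ⬝ᵥ d ≠ 0 →
        ∃ h : GL (Fin n) F, Sc h ∧ (∀ u ∈ U, (h : Matrix (Fin n) (Fin n) F) *ᵥ u = u) ∧
          ∀ z, (h : Matrix (Fin n) (Fin n) F) *ᵥ z = z + (φ ⬝ᵥ z) • d := by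
      intro φ d hU hs0 hc0
      let h : GL (Fin n) F :=
        ⟨1 + Matrix.vecMulVec d φ, 1 + (-(1 + φ ⬝ᵥ d)⁻¹) • Matrix.vecMulVec d φ,
          by
            simp only [mul_add, add_mul, one_mul, mul_one, Matrix.mul_smul, Matrix.smul_mul,
              Matrix.vecMulVec_mul_vecMulVec, Matrix.vecMulVec_smul, smul_smul]
            match_scalars <;> field_simp <;> ring,
          by
            simp only [mul_add, add_mul, one_mul, mul_one, Matrix.mul_smul, Matrix.smul_mul,
              Matrix.vecMulVec_mul_vecMulVec, Matrix.vecMulVec_smul, smul_smul]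
            match_scalars <;> field_simp <;> ring⟩
      have hz : ∀ z, (h : Matrix (Fin n) (Fin n) F) *ᵥ z = z + (φ ⬝ᵥ z) • d := fun z => by
        show (1 + Matrix.vecMulVec d φ) *ᵥ z = _
        rw [Matrix.add_mulVec, Matrix.one_mulVec, Matrix.vecMulVec_mulVec, op_smul_eq_smul]
      refine ⟨h, hhom φ d h (hU x hxk) hs0 hc0 rfl, fun u hu => ?_, hz⟩
      rw [hz, hU u hu, zero_smul, add_zero]
    obtain ⟨h, hSc, hU, hw⟩ : ∃ h : GL (Fin n) F, Sc h ∧
        (∀ u ∈ U, (h : Matrix (Fin n) (Fin n) F) *ᵥ u = u) ∧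
          (h : Matrix (Fin n) (Fin n) F) *ᵥ w = v := by
      obtain ⟨f₀, hf₀, hf₀U⟩ := Submodule.exists_le_ker_of_notMem hwU
      let f₁ := (f₀ w)⁻¹ • f₀
      have hf₁ : f₁ w = 1 := by simp [f₁, inv_mul_cancel₀ hf₀]
      have hf₁U : ∀ u ∈ U, f₁ u = 0 := fun u hu => by
        simp [f₁, show f₀ u = 0 from hf₀U hu]
      by_cases hvW : v ∈ U ⊔ Submodule.span F {w}
      · obtain ⟨u, hu, z, hz, huz⟩ := Submodule.mem_sup.mp hvW
        obtain ⟨lam, hlamz⟩ := Submodule.mem_span_singleton.mp hz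
        rw [← hlamz] at huz
        have hlam : lam ≠ 0 := fun h => hv (by rw [← huz, h, zero_smul, add_zero]; exact hu)
        rw [← huz]
        obtain ⟨φ, hφ⟩ := hfun f₁
        by_cases h1 : lam = 1
        · subst h1
          obtain ⟨h', hS', hU', hz'⟩ := step φ ((-2 : F) • w) (fun u hu => by rw [hφ]; exact hf₁U u hu)
            (by rw [hφ, map_smul, hf₁]; simp [h2])
            (by rw [hφ, map_smul, hf₁, smul_eq_mul, mul_one]; norm_num)
          have hw' : (h' : Matrix (Fin n) (Fin n) F) *ᵥ w = -w := by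
            rw [hz', hφ, hf₁, one_smul]; module
          let f₂ := -f₁
          obtain ⟨φ', hφ'⟩ := hfun f₂
          obtain ⟨h'', hS'', hU'', hz''⟩ := step φ' (u + (1 : F) • w - -w)
            (fun u hu => by rw [hφ']; simp [f₂, hf₁U u hu])
            (by rw [hφ']; simp [f₂, hf₁, hf₁U u hu]; intro h; exact h2 (by linear_combination -h))
            (by rw [hφ']; simp [f₂, hf₁, hf₁U u hu])
          refine ⟨h'' * h', hmul _ _ hS'' hS', fun z hz => by
            rw [Units.val_mul, ← Matrix.mulVec_mulVec, hU' z hz, hU'' z hz], ?_⟩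
          rw [Units.val_mul, ← Matrix.mulVec_mulVec, hw', hz'', hφ']
          simp [f₂, hf₁]
        · obtain ⟨h, hS, hU', hz'⟩ := step φ (u + lam • w - w) (fun u hu => by rw [hφ]; exact hf₁U u hu)
            (by rw [hφ]; simp [hf₁, hf₁U u hu, sub_eq_zero, h1])
            (by rw [hφ]; simp [hf₁, hf₁U u hu, hlam])
          exact ⟨h, hS, hU', by rw [hz', hφ, hf₁, one_smul]; abel⟩
      · obtain ⟨f₂, hf₂, hf₂U⟩ := Submodule.exists_le_ker_of_notMem hvW
        let f := f₁ + ((-1 - f₁ v) / f₂ v) • f₂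
        have hfw : f w = 1 := by
          have : f₂ w = 0 := hf₂U (Submodule.mem_sup_right (Submodule.mem_span_singleton_self w))
          simp [f, this, hf₁]
        have hfv : f v = -1 := by simp [f, div_mul_cancel₀ _ hf₂]
        obtain ⟨φ, hφ⟩ := hfun f
        obtain ⟨h, hS, hU', hz'⟩ := step φ (v - w)
          (fun u hu => by
            rw [hφ]
            have : f₂ u = 0 := hf₂U (Submodule.mem_sup_left hu)
            simp [f, this, hf₁U u hu])
          (by rw [hφ, map_sub, hfv, hfw]; intro h; exact h2 (by linear_combination -h))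
          (by rw [hφ, map_sub, hfv, hfw]; norm_num)
        exact ⟨h, hS, hU', by rw [hz', hφ, hfw, one_smul]; abel⟩
    have hlt : U < fix (h * k) := by
      refine lt_of_le_of_ne (fun u hu => ?_) (fun heq => hv ?_)
      · rw [hfix, Units.val_mul, ← Matrix.mulVec_mulVec, (hfix k u).mp hu, hU u hu]
      · rw [heq, hfix, Units.val_mul, ← Matrix.mulVec_mulVec]; exact hw
    have hlt' := Submodule.finrank_lt_finrank_of_lt hlt
    have hle : Module.finrank F (fix (h * k)) ≤ n :=
      (Submodule.finrank_le _).trans_eq (Module.finrank_fin_fun F)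
    have hk := ih _ (by omega) (h * k) rfl (hlt.le hxk)
    have := hmul _ _ (hinv _ hSc) hk
    rwa [inv_mul_cancel_left] at this

end

end Cfsg.Agent.H53.Weil
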