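import Cfsg.Agent.H53.Weil.Rigid
import Cfsg.Agent.H53.Weil.Existence
import Cfsg.Agent.CharBasic.Rep
import Cfsg.Prelude.Def_Characters

/-!
The irreducible characters of small degree of the symplectic group.
-/

set_option autoImplicit false

namespace Cfsg.Agent.H53.Weil

open Cfsg.Agent.Symplectic
open scoped Matrix

noncomputable section

variable {n : ℕ} {F : Type*} [Field F] [Fintype F]

local notation "Sp" => Matrix.symplecticGroup (Fin n) F

section reps

variable {V : Type*} [AddCommGroup V] [Module ℂ V]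

theorem subrep_cases (ρ : Representation ℂ (Matrix.symplecticGroup (Fin n) F) V) (hirr : ρ.IsIrreducible)
    (P : Submodule ℂ V) (hP : ∀ g : Sp, ∀ v ∈ P, ρ g v ∈ P) : P = ⊥ ∨ P = ⊤ := by
  let W : Subrepresentation ρ := ⟨P, hP⟩
  rcases @IsSimpleOrder.eq_bot_or_eq_top _ _ _ hirr W with h | h
  · exact Or.inl (congrArg Subrepresentation.toSubmodule h)
  · exact Or.inr (congrArg Subrepresentation.toSubmodule h)

theorem lEl_neg_sq : lEl (-1 : GL (Fin n) F) * lEl (-1 : GL (Fin n) F) = (1 : Sp) := by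
  rw [lEl_mul, neg_one_mul, neg_neg, lEl_one]

theorem exists_parity (ρ : Representation ℂ (Matrix.symplecticGroup (Fin n) F) V) (hirr : ρ.IsIrreducible) :
    ∃ δ : ℂ, (δ = 1 ∨ δ = -1) ∧ ∀ v, ρ (lEl (-1 : GL (Fin n) F)) v = δ • v := by
  let P : Submodule ℂ V := LinearMap.ker (ρ (lEl (-1 : GL (Fin n) F)) - 1)
  have hcomm : ∀ g v, ρ (lEl (-1 : GL (Fin n) F)) (ρ g v) = ρ g (ρ (lEl (-1 : GL (Fin n) F)) v) :=
    fun g v => by
      rw [← Module.End.mul_apply, ← map_mul, lEl_neg_one_comm, map_mul, Module.End.mul_apply]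
  have hmem : ∀ v, v ∈ P ↔ ρ (lEl (-1 : GL (Fin n) F)) v = v := fun v => by
    simp [P, sub_eq_zero]
  rcases subrep_cases ρ hirr P (fun g v hv => by
    rw [hmem] at hv ⊢; rw [hcomm, hv]) with h | h
  · refine ⟨-1, Or.inr rfl, fun v => ?_⟩
    have : v + ρ (lEl (-1 : GL (Fin n) F)) v ∈ P := by
      rw [hmem, map_add, ← Module.End.mul_apply, ← map_mul, lEl_neg_sq, map_one,
        Module.End.one_apply, add_comm]
    rw [h, Submodule.mem_bot, add_comm] at this
    rw [neg_one_smul]
    exact eq_neg_of_add_eq_zero_left this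
  · refine ⟨1, Or.inl rfl, fun v => ?_⟩
    rw [one_smul, ← hmem, h]
    exact Submodule.mem_top

theorem trivial_of_uEl (hn : 2 ≤ n) (hodd : Odd (Fintype.card F))
    (ρ : Representation ℂ (Matrix.symplecticGroup (Fin n) F) V) (h : ∀ X, ρ (uEl X) = 1) :
    ∀ g, ρ g = 1 := by
  classical
  have h2 := two_ne_zero_of_odd_card hodd
  have hq : 3 ≤ Fintype.card F := by
    have := Fintype.one_lt_card (α := F)
    obtain ⟨r, hr⟩ := hodd
    omega
  rcases normal_subgroup_cases (perfect n (by omega)) ρ.ker with hker | hker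
  · exfalso
    let X : symMat n F := ⟨Matrix.single ⟨0, by omega⟩ ⟨0, by omega⟩ 1, by
      rw [mem_symMat, Matrix.IsSymm, Matrix.transpose_single]⟩
    obtain ⟨c, hc⟩ := (mem_center_iff _).mp (hker (MonoidHom.mem_ker.mpr (h X)))
    have h1 : (uEl X : Mat n F) = c • (1 : Mat n F) :=
      Matrix.ext_of_mulVec_single fun i => by rw [hc, Matrix.smul_mulVec, Matrix.one_mulVec]
    have := congrArg (fun M : Mat n F => M (Sum.inl ⟨0, by omega⟩) (Sum.inr ⟨0, by omega⟩)) h1
    simp [uEl, X] at this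
  · exact fun g => MonoidHom.mem_ker.mp (hker ▸ Subgroup.mem_top g)

/-- every non-trivial representation has a weight of rank at least one -/
theorem exists_weight (hn : 2 ≤ n) (hodd : Odd (Fintype.card F))
    (ρ : Representation ℂ (Matrix.symplecticGroup (Fin n) F) V) (hnt : ∃ g, ρ g ≠ 1) :
    ∃ (S : Matrix (Fin n) (Fin n) F) (v : V), S.IsSymm ∧ S ≠ 0 ∧ v ∈ wtSpace ρ S ∧ v ≠ 0 := by
  classical
  by_contra h
  push_neg at h
  obtain ⟨g, hg⟩ := hnt
  refine hg (trivial_of_uEl hn hodd ρ (fun X => LinearMap.ext fun v => ?_) g)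
  have h2 := two_ne_zero_of_odd_card hodd
  have h0 : proj ρ (0 : Matrix (Fin n) (Fin n) F) v = v := by
    conv_rhs => rw [← sum_proj ρ h2 v, Finset.sum_eq_single (0 : symMat n F) (fun S _ hS =>
      h S.1 _ (mem_symMat.mp S.2) (fun h' => hS (Subtype.ext h')) (proj_mem ρ _ v)) (by simp)]
    rfl
  rw [← h0, proj_mem ρ 0 v X]
  simp [trMap]

theorem scale_vv {a b : F} (r : F) (hab : b = a * r ^ 2) (x : Fin n → F) :
    vv b x = vv a (r • x) := by
  ext i j
  simp [vv, Matrix.vecMulVec_apply, hab]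
  ring

/-- a generating weight vector with a normalised class -/
theorem exists_gen (hn : 2 ≤ n) (hodd : Odd (Fintype.card F)) {d : F} (hd : ¬ IsSquare d)
    (ρ : Representation ℂ (Matrix.symplecticGroup (Fin n) F) V) (hirr : ρ.IsIrreducible) (hs : Small ρ)
    (hnt : ∃ g, ρ g ≠ 1) (i₀ : Fin n) :
    ∃ a m, (a = 1 ∨ a = d) ∧ m ≠ 0 ∧ Gen ρ i₀ a m := by
  classical
  have h2 := two_ne_zero_of_odd_card hodd
  obtain ⟨δ, -, hδ⟩ := exists_parity ρ hirr
  obtain ⟨S, v, hS, hS0, hv, hv0⟩ := exists_weight hn hodd ρ hnt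
  obtain ⟨b, x, rfl⟩ := hs S v hS hv hv0
  have hb : b ≠ 0 := fun h => hS0 (by simp [h])
  have hx : x ≠ 0 := fun h => hS0 (by simp [h])
  obtain ⟨a, r, ha, hr⟩ : ∃ a r, (a = 1 ∨ a = d) ∧ b = a * r ^ 2 := by
    by_cases hsq : IsSquare b
    · obtain ⟨r, hr⟩ := hsq
      exact ⟨1, r, Or.inl rfl, by rw [hr]; ring⟩
    · have hd0 : d ≠ 0 := fun h => hd (by rw [h]; exact IsSquare.zero)
      have hc : ringChar F ≠ 2 := fun h => h2 (by
        have := ringChar.charP F; rw [h] at this; exact CharTwo.two_eq_zero)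
      have h1 := quadraticChar_neg_one_iff_not_isSquare.mpr hd
      have h3 := quadraticChar_neg_one_iff_not_isSquare.mpr hsq
      obtain ⟨r, hr⟩ := (quadraticChar_one_iff_isSquare (a := b / d) (div_ne_zero hb hd0)).mp (by
        have : quadraticChar F (b / d) * quadraticChar F d = quadraticChar F b := by
          rw [← map_mul, div_mul_cancel₀ _ hd0]
        rw [h1, h3] at this
        linarith)
      exact ⟨d, r, Or.inr rfl, by rw [sq, ← hr]; field_simp⟩
  have hr0 : r ≠ 0 := fun h => hb (by rw [hr, h]; ring)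
  have hrx : r • x ≠ 0 := smul_ne_zero hr0 hx
  obtain ⟨g, hg⟩ := exists_gl i₀ hrx
  have hv' : v ∈ wtSpace ρ (vv a (r • x)) := by rw [← scale_vv r hr]; exact hv
  refine ⟨a, ρ (lEl g⁻¹) v, ha, fun h => hv0 ?_, hn, h2, hs, ?_, ?_, δ, hδ⟩
  · have := congrArg (ρ (lEl g⁻¹)⁻¹) h
    simpa [← Module.End.mul_apply, ← map_mul] using this
  · rcases ha with rfl | rfl
    · exact one_ne_zero
    · exact fun h => hd (by rw [h]; exact IsSquare.zero)
  · have := lEl_mem_vv ρ hv' g⁻¹
    rwa [← hg, Matrix.mulVec_mulVec, Units.inv_mul, Matrix.one_mulVec] at this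

theorem gen_top {ρ : Representation ℂ (Matrix.symplecticGroup (Fin n) F) V} (hirr : ρ.IsIrreducible)
    {i₀ : Fin n} {a : F} {m : V} (H : Gen ρ i₀ a m) (hm : m ≠ 0) : genSpace ρ i₀ m = ⊤ := by
  rcases subrep_cases ρ hirr _ (fun g v hv => H.stable g hv) with h | h
  · exfalso
    apply hm
    have hmem : m ∈ genSpace ρ i₀ m := Submodule.mem_sup_left (by
      have := mem_orbitSpan (ρ := ρ) (m := m) (1 : GL (Fin n) F)
      rwa [lEl_one, map_one, Module.End.one_apply] at this)
    rwa [h, Submodule.mem_bot] at hmem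
  · exact h

/-- the dimension of a small non-trivial irreducible representation -/
theorem small_dim [FiniteDimensional ℂ V] (hn : 2 ≤ n) (hodd : Odd (Fintype.card F))
    (ρ : Representation ℂ (Matrix.symplecticGroup (Fin n) F) V) (hirr : ρ.IsIrreducible) (hs : Small ρ)
    (hnt : ∃ g, ρ g ≠ 1) :
    2 * Module.finrank ℂ V = Fintype.card F ^ n - 1 ∨
      2 * Module.finrank ℂ V = Fintype.card F ^ n + 1 := by
  have h2 := two_ne_zero_of_odd_card hodd
  obtain ⟨d, hd⟩ := FiniteField.exists_nonsquare (F := F) (fun h => h2 (by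
    have := ringChar.charP F; rw [h] at this; exact CharTwo.two_eq_zero))
  obtain ⟨a, m, -, hm, H⟩ := exists_gen hn hodd hd ρ hirr hs hnt ⟨0, by omega⟩
  have hup := H.two_mul_finrank_le
  rw [gen_top hirr H hm, finrank_top] at hup
  have hS0 : vv a (Pi.single (⟨0, by omega⟩ : Fin n) 1) ≠ 0 := fun h => H.ha (by
    have := congrFun (congrFun h ⟨0, by omega⟩) ⟨0, by omega⟩
    simpa [vv, Matrix.vecMulVec_apply] using this)
  have hlow := (two_mul_card_orbit_ge h2 _ (vv_isSymm _ _) hS0).trans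
    (Nat.mul_le_mul_left 2 (orbit_le_finrank ρ h2 (vv_isSymm _ _) H.wt hm))
  obtain ⟨r, hr⟩ : Odd (Fintype.card F ^ n) := hodd.pow
  omega

/-- small irreducible representations with the same class and parity have the same character -/
theorem character_eq [FiniteDimensional ℂ V] {W : Type*} [AddCommGroup W] [Module ℂ W]
    [FiniteDimensional ℂ W]
    {ρ : Representation ℂ (Matrix.symplecticGroup (Fin n) F) V}
    {σ : Representation ℂ (Matrix.symplecticGroup (Fin n) F) W}
    (hρ : ρ.IsIrreducible) (hσ : σ.IsIrreducible) {i₀ : Fin n} {a : F} {m : V} {m' : W}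
    (H : Gen ρ i₀ a m) (H' : Gen σ i₀ a m') (hm : m ≠ 0) (hm' : m' ≠ 0) {δ : ℂ}
    (hδ : ∀ v, ρ (lEl (-1 : GL (Fin n) F)) v = δ • v)
    (hδ' : ∀ v, σ (lEl (-1 : GL (Fin n) F)) v = δ • v) : ρ.character = σ.character := by
  set τ := ρ.prod σ
  have hτ : ∀ g (p : V × W), τ g p = (ρ g p.1, σ g p.2) := fun g p => rfl
  have G : Gen τ i₀ a (m, m') :=
    ⟨H.two_le, H.two, H.small.prod H'.small, H.ha, fun X => Prod.ext (H.wt X) (H'.wt X),
      δ, fun p => Prod.ext (hδ p.1) (hδ' p.2)⟩
  set Y := genSpace τ i₀ (m, m')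
  let rY : Representation ℂ (Matrix.symplecticGroup (Fin n) F) Y :=
    { toFun := fun g => (τ g).restrict fun v hv => G.stable g hv
      map_one' := LinearMap.ext fun v => Subtype.ext (by
        show τ 1 v.1 = v.1
        rw [map_one, Module.End.one_apply])
      map_mul' := fun g h => LinearMap.ext fun v => Subtype.ext (by
        show τ (g * h) v.1 = τ g (τ h v.1)
        rw [map_mul, Module.End.mul_apply]) }
  have hmem : (m, m') ∈ Y := Submodule.mem_sup_left (by
    have := mem_orbitSpan (ρ := τ) (m := (m, m')) (1 : GL (Fin n) F)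
    rwa [lEl_one, map_one, Module.End.one_apply] at this)
  let p₁ : Y →ₗ[ℂ] V := (LinearMap.fst ℂ V W).comp Y.subtype
  let p₂ : Y →ₗ[ℂ] W := (LinearMap.snd ℂ V W).comp Y.subtype
  have hb1 : Function.Bijective p₁ := by
    constructor
    · rw [← LinearMap.ker_eq_bot, LinearMap.ker_eq_bot']
      intro v hv
      rcases subrep_cases σ hσ (Y.comap (LinearMap.inr ℂ V W)) (fun g w hw => by
        have := G.stable g (v := ((0 : V), w)) hw
        rw [hτ, map_zero] at this
        exact this) with h | h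
      · have h1 : v.1.1 = 0 := hv
        have h2' : v.1.2 ∈ Y.comap (LinearMap.inr ℂ V W) := by
          show ((0 : V), v.1.2) ∈ Y
          rw [← h1]; exact v.2
        rw [h, Submodule.mem_bot] at h2'
        exact Subtype.ext (Prod.ext h1 h2')
      · exfalso
        have hy : ((0 : V), m') ∈ Y := by
          have : m' ∈ Y.comap (LinearMap.inr ℂ V W) := h ▸ Submodule.mem_top
          exact this
        obtain ⟨t, -, ht⟩ := G.weight_mem H.ha hy
          (fun X => Prod.ext (by simp [hτ]) (H'.wt X)) (fun h => hm' (congrArg Prod.snd h))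
        obtain ⟨c, hc⟩ := Submodule.mem_span_singleton.mp (ht rfl)
        have e1 : c • m = 0 := congrArg Prod.fst hc
        have e2 : c • m' = m' := congrArg Prod.snd hc
        rw [(smul_eq_zero.mp e1).resolve_right hm, zero_smul] at e2
        exact hm' e2.symm
    · rw [← LinearMap.range_eq_top]
      rcases subrep_cases ρ hρ (LinearMap.range p₁) (by
        rintro g _ ⟨v, rfl⟩; exact ⟨rY g v, rfl⟩) with h | h
      · exfalso
        exact hm ((Submodule.eq_bot_iff _).mp h m ⟨⟨_, hmem⟩, rfl⟩)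
      · exact h
  have hb2 : Function.Bijective p₂ := by
    constructor
    · rw [← LinearMap.ker_eq_bot, LinearMap.ker_eq_bot']
      intro v hv
      rcases subrep_cases ρ hρ (Y.comap (LinearMap.inl ℂ V W)) (fun g w hw => by
        have := G.stable g (v := (w, (0 : W))) hw
        rw [hτ, map_zero] at this
        exact this) with h | h
      · have h1 : v.1.2 = 0 := hv
        have h2' : v.1.1 ∈ Y.comap (LinearMap.inl ℂ V W) := by
          show (v.1.1, (0 : W)) ∈ Y
          rw [← h1]; exact v.2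
        rw [h, Submodule.mem_bot] at h2'
        exact Subtype.ext (Prod.ext h2' h1)
      · exfalso
        have hy : (m, (0 : W)) ∈ Y := by
          have : m ∈ Y.comap (LinearMap.inl ℂ V W) := h ▸ Submodule.mem_top
          exact this
        obtain ⟨t, -, ht⟩ := G.weight_mem H.ha hy
          (fun X => Prod.ext (H.wt X) (by simp [hτ])) (fun h => hm (congrArg Prod.fst h))
        obtain ⟨c, hc⟩ := Submodule.mem_span_singleton.mp (ht rfl)
        have e1 : c • m' = 0 := congrArg Prod.snd hc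
        have e2 : c • m = m := congrArg Prod.fst hc
        rw [(smul_eq_zero.mp e1).resolve_right hm', zero_smul] at e2
        exact hm e2.symm
    · rw [← LinearMap.range_eq_top]
      rcases subrep_cases σ hσ (LinearMap.range p₂) (by
        rintro g _ ⟨v, rfl⟩; exact ⟨rY g v, rfl⟩) with h | h
      · exfalso
        exact hm' ((Submodule.eq_bot_iff _).mp h m' ⟨⟨_, hmem⟩, rfl⟩)
      · exact h
  let E1 : rY.Equiv ρ := Representation.Equiv.mk (LinearEquiv.ofBijective p₁ hb1)
    (fun g => LinearMap.ext fun v => rfl)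
  let E2 : rY.Equiv σ := Representation.Equiv.mk (LinearEquiv.ofBijective p₂ hb2)
    (fun g => LinearMap.ext fun v => rfl)
  exact (Representation.char_iso E1).symm.trans (Representation.char_iso E2)

end reps

section twist

/-- the outer automorphism multiplying the symmetric matrices by `d` -/
def twistAut (d : Fˣ) : Sp →* Sp where
  toFun g := ⟨Matrix.fromBlocks (g.1.toBlocks₁₁) ((d : F) • g.1.toBlocks₁₂)
      ((d⁻¹ : Fˣ).1 • g.1.toBlocks₂₁) (g.1.toBlocks₂₂), by
    have hg := g.2
    rw [← Matrix.fromBlocks_toBlocks g.1, SymplecticGroup.fromBlocks_mem_iff] at hg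
    obtain ⟨h1, h2, h3⟩ := hg
    rw [SymplecticGroup.fromBlocks_mem_iff]
    refine ⟨?_, ?_, ?_⟩
    · rw [Matrix.transpose_smul, Matrix.mul_smul, Matrix.smul_mul, h1]
    · rw [Matrix.transpose_smul, Matrix.mul_smul, Matrix.smul_mul, h2]
    · rw [Matrix.transpose_smul, Matrix.smul_mul, Matrix.mul_smul, smul_smul, Units.inv_mul, one_smul, h3]⟩
  map_one' := Subtype.ext (by
    show Matrix.fromBlocks _ _ _ _ = (1 : Mat n F)
    rw [OneMemClass.coe_one, ← Matrix.fromBlocks_one, Matrix.toBlocks_fromBlocks₁₁,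
      Matrix.toBlocks_fromBlocks₁₂, Matrix.toBlocks_fromBlocks₂₁, Matrix.toBlocks_fromBlocks₂₂,
      smul_zero, smul_zero])
  map_mul' g h := Subtype.ext (by
    show Matrix.fromBlocks _ _ _ _ = Matrix.fromBlocks _ _ _ _ * Matrix.fromBlocks _ _ _ _
    rw [Submonoid.coe_mul]
    conv_lhs => rw [← Matrix.fromBlocks_toBlocks g.1, ← Matrix.fromBlocks_toBlocks h.1,
      Matrix.fromBlocks_multiply]
    simp [Matrix.fromBlocks_multiply, Matrix.mul_smul, Matrix.smul_mul, smul_add, smul_smul])

theorem twistAut_surjective (d : Fˣ) : Function.Surjective (twistAut (n := n) (F := F) d) := by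
  intro g
  refine ⟨twistAut d⁻¹ g, Subtype.ext ?_⟩
  show Matrix.fromBlocks _ _ _ _ = g.1
  conv_rhs => rw [← Matrix.fromBlocks_toBlocks g.1]
  simp [twistAut, smul_smul]

theorem twistAut_uEl (d : Fˣ) (X : symMat n F) :
    twistAut d (uEl X) = uEl ⟨(d : F) • X.1, by
      rw [mem_symMat, Matrix.IsSymm, Matrix.transpose_smul, (mem_symMat.mp X.2).eq]⟩ :=
  Subtype.ext (by simp [twistAut, uEl])

variable {V : Type*} [AddCommGroup V] [Module ℂ V]

/-- twisting a representation -/
def twistRep (d : Fˣ) (ρ : Representation ℂ (Matrix.symplecticGroup (Fin n) F) V) :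
    Representation ℂ (Matrix.symplecticGroup (Fin n) F) V :=
  ρ.comp (twistAut d)

theorem twistRep_irreducible (d : Fˣ) (ρ : Representation ℂ (Matrix.symplecticGroup (Fin n) F) V)
    (hρ : ρ.IsIrreducible) : (twistRep d ρ).IsIrreducible := by
  let e : Subrepresentation ρ ≃o Subrepresentation (twistRep d ρ) :=
    { toFun := fun W => ⟨W.toSubmodule, fun g v hv => W.apply_mem_toSubmodule _ hv⟩
      invFun := fun W => ⟨W.toSubmodule, fun g v hv => by
        obtain ⟨g', rfl⟩ := twistAut_surjective d g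
        exact W.apply_mem_toSubmodule g' hv⟩
      left_inv := fun W => rfl
      right_inv := fun W => rfl
      map_rel_iff' := Iff.rfl }
  exact @OrderIso.isSimpleOrder _ _ _ _ _ _ hρ e.symm

theorem twistRep_wt (d : Fˣ) (ρ : Representation ℂ (Matrix.symplecticGroup (Fin n) F) V) {a : F}
    {x : Fin n → F} {m : V} (hm : m ∈ wtSpace ρ (vv a x)) :
    m ∈ wtSpace (twistRep d ρ) (vv ((d : F) * a) x) := by
  intro X
  show ρ (twistAut d (uEl X)) m = _
  rw [twistAut_uEl, hm, trMap_vv, trMap_vv]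
  show eChar F (a * (x ⬝ᵥ ((d : F) • X.1) *ᵥ x)) • m = _
  rw [Matrix.smul_mulVec, dotProduct_smul, smul_eq_mul]
  congr 2
  ring

end twist

/-- the weight vectors at a coordinate vector of a class -/
theorem iso_weight {V W : Type*} [AddCommGroup V] [Module ℂ V] [FiniteDimensional ℂ V] [AddCommGroup W]
    [Module ℂ W] [FiniteDimensional ℂ W] {ρ : Representation ℂ (Matrix.symplecticGroup (Fin n) F) V}
    {σ : Representation ℂ (Matrix.symplecticGroup (Fin n) F) W} (hχ : ρ.character = σ.character)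
    (h2 : (2 : F) ≠ 0) {S : Matrix (Fin n) (Fin n) F} {m : V} (hm : m ∈ wtSpace ρ S) (hm0 : m ≠ 0) :
    ∃ m', m' ∈ wtSpace σ S ∧ m' ≠ 0 := by
  classical
  have htr : LinearMap.trace ℂ V (proj ρ S) = LinearMap.trace ℂ W (proj σ S) := by
    simp only [proj, finsum_eq_sum_of_fintype, map_smul, map_sum]
    exact congrArg _ (Finset.sum_congr rfl fun X _ => congrArg _ (congrFun hχ (uEl X)))
  have hp : ∀ {U : Type _} [AddCommGroup U] [Module ℂ U] (τ : Representation ℂ Sp U),
      LinearMap.IsProj (wtSpace τ S) (proj τ S) :=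
    fun τ => ⟨proj_mem τ S, fun x hx => proj_of_mem_self τ hx⟩
  by_contra hno
  push_neg at hno
  have hbot : wtSpace σ S = ⊥ := (Submodule.eq_bot_iff _).mpr hno
  have hz : proj σ S = 0 := LinearMap.ext fun v => hno _ (proj_mem σ S v)
  rw [(hp ρ).trace, hz, map_zero, Nat.cast_eq_zero, Submodule.finrank_eq_zero] at htr
  exact hm0 ((Submodule.eq_bot_iff _).mp htr m hm)

end

end Cfsg.Agent.H53.Weil
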