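import Cfsg.Agent.Symplectic.OrbitBound

/-!
Congruence orbits of symmetric matrices of rank at least two.
-/

set_option autoImplicit false

namespace Cfsg.Agent.H53.Weil

open Cfsg.Agent.Symplectic (cong cong_cong exists_diagonal_cong)
open scoped Matrix

variable {F : Type*} [Field F]

/-- a multiple of `x xᵀ` -/
def IsLine {n : ℕ} (S : Matrix (Fin n) (Fin n) F) : Prop :=
  ∃ (a : F) (x : Fin n → F), S = a • Matrix.vecMulVec x x

/-- isometries of a diagonal form -/
def Iso {n : ℕ} (c : Fin n → F) : Type _ :=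
  {B : GL (Fin n) F // cong (B : Matrix (Fin n) (Fin n) F) (Matrix.diagonal c) = Matrix.diagonal c}

theorem Iso.mul_mem {n : ℕ} {c : Fin n → F} (A B : Iso c) :
    cong ((A.1 * B.1 : GL (Fin n) F) : Matrix (Fin n) (Fin n) F) (Matrix.diagonal c) =
      Matrix.diagonal c := by
  rw [Units.val_mul, ← cong_cong, A.2, B.2]

theorem Iso.inv_mem {n : ℕ} {c : Fin n → F} (A : Iso c) :
    cong ((A.1⁻¹ : GL (Fin n) F) : Matrix (Fin n) (Fin n) F) (Matrix.diagonal c) =
      Matrix.diagonal c := by
  have h := congrArg (cong ((A.1⁻¹ : GL (Fin n) F) : Matrix (Fin n) (Fin n) F)) A.2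
  rw [cong_cong, ← Units.val_mul, mul_inv_cancel, Units.val_one] at h
  refine h.symm.trans ?_
  simp [cong]

theorem cong_diag_apply {n : ℕ} (c : Fin n → F) (B : Matrix (Fin n) (Fin n) F) (k l : Fin n) :
    cong B (Matrix.diagonal c) k l = ∑ m, B m k * c m * B m l := by
  simp [cong, Matrix.mul_apply, Matrix.diagonal_apply, mul_ite, Finset.sum_ite_eq']

/-- an isometry fixing the `i`-th basis vector is zero off the diagonal in row `i` -/
theorem row_zero {m : ℕ} {c : Fin (m + 1) → F} {i : Fin (m + 1)} (hi : c i ≠ 0) (A : Iso c)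
    (hA : ∀ k, (A.1 : Matrix (Fin (m + 1)) (Fin (m + 1)) F) k i = if k = i then 1 else 0)
    {l : Fin (m + 1)} (hl : l ≠ i) : (A.1 : Matrix (Fin (m + 1)) (Fin (m + 1)) F) i l = 0 := by
  have h := congrFun (congrFun A.2 i) l
  rw [cong_diag_apply, Matrix.diagonal_apply_ne _ (Ne.symm hl), Finset.sum_eq_single i] at h
  · rw [hA, if_pos rfl, one_mul] at h
    exact (mul_eq_zero.mp h).resolve_left hi
  · intro k _ hk
    rw [hA, if_neg hk]; simp
  · simp

variable [Fintype F]

theorem iso_step {m : ℕ} (c : Fin (m + 1) → F) (i : Fin (m + 1)) (hi : c i ≠ 0) :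
    Nat.card (Iso c) ≤
      Nat.card {v : Fin (m + 1) → F // ∑ k, c k * v k ^ 2 = c i} *
        Nat.card (Iso (c ∘ i.succAbove)) := by
  classical
  haveI : Finite (Iso c) := Subtype.finite
  haveI : Finite (Iso (c ∘ i.succAbove)) := Subtype.finite
  let col : Iso c → {v : Fin (m + 1) → F // ∑ k, c k * v k ^ 2 = c i} := fun B =>
    ⟨fun k => (B.1 : Matrix (Fin (m + 1)) (Fin (m + 1)) F) k i, by
      have h := congrFun (congrFun B.2 i) i
      rw [cong_diag_apply, Matrix.diagonal_apply_eq] at h
      refine Eq.trans (Finset.sum_congr rfl fun k _ => ?_) h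
      ring⟩
  let rep : Iso c → Iso c := fun B => Classical.epsilon (fun A => col A = col B)
    (h := ⟨B⟩)
  have hrep : ∀ B, col (rep B) = col B := fun B =>
    Classical.epsilon_spec (p := fun A => col A = col B) ⟨B, rfl⟩
  let red : Iso c → Iso c := fun B =>
    ⟨(rep B).1⁻¹ * B.1, Iso.mul_mem ⟨_, (rep B).inv_mem⟩ B⟩
  have hfix : ∀ B k, ((red B).1 : Matrix (Fin (m + 1)) (Fin (m + 1)) F) k i =
      if k = i then 1 else 0 := by
    intro B k
    have hcol : ∀ l, ((rep B).1 : Matrix (Fin (m + 1)) (Fin (m + 1)) F) l i =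
        (B.1 : Matrix (Fin (m + 1)) (Fin (m + 1)) F) l i :=
      fun l => congrFun (congrArg Subtype.val (hrep B)) l
    have h : (((rep B).1⁻¹ * (rep B).1 : GL (Fin (m + 1)) F) : Matrix (Fin (m + 1)) (Fin (m + 1)) F) k i =
        ((red B).1 : Matrix (Fin (m + 1)) (Fin (m + 1)) F) k i := by
      simp only [red, Units.val_mul, Matrix.mul_apply, hcol]
    rw [← h, inv_mul_cancel, Units.val_one, Matrix.one_apply]
  let sub : Matrix (Fin (m + 1)) (Fin (m + 1)) F → Matrix (Fin m) (Fin m) F :=
    fun M => M.submatrix i.succAbove i.succAbove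
  have hinvfix : ∀ B k, (((red B).1⁻¹ : GL (Fin (m + 1)) F) : Matrix (Fin (m + 1)) (Fin (m + 1)) F) k i =
      if k = i then 1 else 0 := by
    intro B k
    have h : (((red B).1⁻¹ * (red B).1 : GL (Fin (m + 1)) F) : Matrix (Fin (m + 1)) (Fin (m + 1)) F) k i =
        (((red B).1⁻¹ : GL (Fin (m + 1)) F) : Matrix (Fin (m + 1)) (Fin (m + 1)) F) k i := by
      rw [Units.val_mul, Matrix.mul_apply, Finset.sum_eq_single i]
      · rw [hfix, if_pos rfl, mul_one]
      · intro l _ hl; rw [hfix, if_neg hl, mul_zero]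
      · simp
    rw [← h, inv_mul_cancel, Units.val_one, Matrix.one_apply]
  have hsub : ∀ M N : Matrix (Fin (m + 1)) (Fin (m + 1)) F,
      (∀ k, M k i = if k = i then 1 else 0) → sub M * sub N = sub (M * N) := by
    intro M N hM
    ext k l
    simp only [sub, Matrix.mul_apply, Matrix.submatrix_apply]
    rw [Fin.sum_univ_succAbove (fun x => M (i.succAbove k) x * N x (i.succAbove l)) i, hM,
      if_neg (Fin.succAbove_ne i k)]
    simp
  have hone : sub 1 = 1 := Matrix.submatrix_one _ Fin.succAbove_right_injective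
  let small : Iso c → Iso (c ∘ i.succAbove) := fun B =>
    ⟨⟨sub (red B).1, sub ((red B).1⁻¹ : GL (Fin (m + 1)) F),
      by rw [hsub _ _ (hfix B), ← Units.val_mul, mul_inv_cancel, Units.val_one, hone],
      by rw [hsub _ _ (hinvfix B), ← Units.val_mul, inv_mul_cancel, Units.val_one, hone]⟩, by
      ext k l
      have h := congrFun (congrFun (red B).2 (i.succAbove k)) (i.succAbove l)
      rw [cong_diag_apply, Fin.sum_univ_succAbove _ i,
        row_zero hi (red B) (hfix B) (Fin.succAbove_ne i k), zero_mul, zero_mul, zero_add] at h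
      rw [cong_diag_apply]
      refine Eq.trans ?_ (h.trans ?_)
      · rfl
      · simp [Matrix.diagonal_apply, Fin.succAbove_right_injective.eq_iff]⟩
  have hinj : Function.Injective (fun B => (col B, small B)) := by
    intro B B' h
    simp only [Prod.mk.injEq] at h
    obtain ⟨h1, h2⟩ := h
    have hr : rep B = rep B' := by simp only [rep, h1]
    have hred : red B = red B' := by
      refine Subtype.ext (Units.ext (Matrix.ext fun k l => ?_))
      rcases Fin.eq_self_or_eq_succAbove i l with rfl | ⟨l', rfl⟩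
      · rw [hfix, hfix]
      rcases Fin.eq_self_or_eq_succAbove i k with rfl | ⟨k', rfl⟩
      · rw [row_zero hi _ (hfix B) (Fin.succAbove_ne _ _),
          row_zero hi _ (hfix B') (Fin.succAbove_ne _ _)]
      · exact congrFun (congrFun (congrArg (fun A : Iso (c ∘ i.succAbove) =>
          (A.1 : Matrix (Fin m) (Fin m) F)) h2) k') l'
    have := congrArg Subtype.val hred
    simp only [red, hr, mul_right_inj] at this
    exact Subtype.ext this
  exact (Nat.card_le_card_of_injective _ hinj).trans_eq (Nat.card_prod _ _)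

theorem count_value {m : ℕ} (c : Fin (m + 1) → F) (i : Fin (m + 1)) (hi : c i ≠ 0) (d : F) :
    Nat.card {v : Fin (m + 1) → F // ∑ k, c k * v k ^ 2 = d} ≤ 2 * Fintype.card F ^ m := by
  classical
  rw [Nat.card_eq_fintype_card, Fintype.card_subtype]
  refine (Finset.card_le_mul_card_image (f := fun v : Fin (m + 1) → F => v ∘ i.succAbove) _ 2 ?_).trans
    (Nat.mul_le_mul_left 2 ?_)
  · intro w _
    by_cases hne : (Finset.filter (fun v : Fin (m + 1) → F => v ∘ i.succAbove = w)
        (Finset.filter (fun v : Fin (m + 1) → F => ∑ k, c k * v k ^ 2 = d) Finset.univ)).Nonempty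
    · obtain ⟨v₀, hv₀⟩ := hne
      simp only [Finset.mem_filter, Finset.mem_univ, true_and] at hv₀
      refine (Finset.card_le_card (t := {v₀, Function.update v₀ i (-v₀ i)}) ?_).trans
        Finset.card_le_two
      intro v hv
      simp only [Finset.mem_filter, Finset.mem_univ, true_and] at hv
      have hother : ∀ l, v (i.succAbove l) = v₀ (i.succAbove l) := fun l =>
        congrFun (hv.2.trans hv₀.2.symm) l
      have e := hv.1.trans hv₀.1.symm
      rw [Fin.sum_univ_succAbove _ i, Fin.sum_univ_succAbove (fun k => c k * v₀ k ^ 2) i] at e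
      simp only [hother, add_left_inj, mul_right_inj' hi] at e
      rcases sq_eq_sq_iff_eq_or_eq_neg.mp e with e | e
      · refine Finset.mem_insert.mpr (Or.inl (funext fun k => ?_))
        rcases Fin.eq_self_or_eq_succAbove i k with rfl | ⟨l, rfl⟩
        · exact e
        · exact hother l
      · refine Finset.mem_insert.mpr (Or.inr (Finset.mem_singleton.mpr (funext fun k => ?_)))
        rcases Fin.eq_self_or_eq_succAbove i k with rfl | ⟨l, rfl⟩
        · rw [Function.update_self]; exact e
        · rw [Function.update_of_ne (Fin.succAbove_ne i l)]; exact hother l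
    · rw [Finset.not_nonempty_iff_eq_empty.mp hne]; simp
  · exact (Finset.card_le_univ _).trans_eq (by simp)

/-- a conic has at most `q + 1` points -/
theorem count_conic {m : ℕ} (h2 : (2 : F) ≠ 0) (c : Fin (m + 2) → F) {i j : Fin (m + 2)}
    (hij : i ≠ j) (hi : c i ≠ 0) (hj : c j ≠ 0) (h0 : ∀ k, k ≠ i → k ≠ j → c k = 0) :
    Nat.card {v : Fin (m + 2) → F // ∑ k, c k * v k ^ 2 = c i} ≤
      (Fintype.card F + 1) * Fintype.card F ^ m := by
  classical
  have hval : ∀ v : Fin (m + 2) → F, ∑ k, c k * v k ^ 2 = c i →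
      c i * v i ^ 2 + c j * v j ^ 2 = c i := by
    intro v hv
    rw [← Finset.sum_pair (f := fun k => c k * v k ^ 2) hij]
    refine Eq.trans (Finset.sum_subset (Finset.subset_univ _) fun k _ hk => ?_) hv
    simp only [Finset.mem_insert, Finset.mem_singleton, not_or] at hk
    rw [h0 k hk.1 hk.2, zero_mul]
  let φ : {v : Fin (m + 2) → F // ∑ k, c k * v k ^ 2 = c i} →
      Option F × ({k : Fin (m + 2) // k ≠ i ∧ k ≠ j} → F) := fun v =>
    (if v.1 i = 1 then none else some (v.1 j / (v.1 i - 1)), fun k => v.1 k)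
  have hinj : Function.Injective φ := by
    rintro ⟨v, hv⟩ ⟨w, hw⟩ h
    simp only [φ, Prod.mk.injEq] at h
    obtain ⟨h1, h2'⟩ := h
    have ev := hval v hv
    have ew := hval w hw
    have hpair : v i = w i ∧ v j = w j := by
      by_cases hvi : v i = 1
      · rw [if_pos hvi] at h1
        have hwi : w i = 1 := by by_contra hwi; rw [if_neg hwi] at h1; cases h1
        refine ⟨hvi.trans hwi.symm, ?_⟩
        rw [hvi, one_pow, mul_one, add_eq_left] at ev
        rw [hwi, one_pow, mul_one, add_eq_left] at ew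
        rw [pow_eq_zero_iff two_ne_zero |>.mp ((mul_eq_zero.mp ev).resolve_left hj),
          pow_eq_zero_iff two_ne_zero |>.mp ((mul_eq_zero.mp ew).resolve_left hj)]
      · rw [if_neg hvi] at h1
        have hwi : w i ≠ 1 := by intro hwi; rw [if_pos hwi] at h1; cases h1
        rw [if_neg hwi, Option.some.injEq] at h1
        have key : ∀ x y : F, c i * x ^ 2 + c j * y ^ 2 = c i → x ≠ 1 →
            x * (c i + c j * (y / (x - 1)) ^ 2) = c j * (y / (x - 1)) ^ 2 - c i := by
          intro x y hxy hx
          have hx' : x - 1 ≠ 0 := sub_ne_zero.mpr hx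
          have : (x - 1) * (x * (c i + c j * (y / (x - 1)) ^ 2) -
              (c j * (y / (x - 1)) ^ 2 - c i)) = 0 := by
            have hy : y / (x - 1) * (x - 1) = y := div_mul_cancel₀ y hx'
            generalize y / (x - 1) = r at hy ⊢
            subst hy
            linear_combination hxy
          exact sub_eq_zero.mp ((mul_eq_zero.mp this).resolve_left hx')
        have kv := key _ _ ev hvi
        have kw := key _ _ ew hwi
        rw [← h1] at kw
        have hco : c i + c j * (v j / (v i - 1)) ^ 2 ≠ 0 := by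
          intro h0'
          rw [h0', mul_zero] at kv
          exact mul_ne_zero h2 hi (by linear_combination h0' + kv)
        have hx : v i = w i := mul_right_cancel₀ hco (kv.trans kw.symm)
        refine ⟨hx, ?_⟩
        rw [hx] at h1
        exact (div_left_inj' (sub_ne_zero.mpr hwi)).mp h1
    refine Subtype.ext (funext fun k => ?_)
    by_cases hki : k = i
    · subst hki; exact hpair.1
    by_cases hkj : k = j
    · subst hkj; exact hpair.2
    exact congrFun h2' ⟨k, hki, hkj⟩
  refine (Nat.card_le_card_of_injective φ hinj).trans_eq ?_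
  rw [Nat.card_prod, Nat.card_fun, Nat.card_eq_fintype_card, Nat.card_eq_fintype_card,
    Nat.card_eq_fintype_card, Fintype.card_option]
  congr 2
  rw [Fintype.card_subtype]
  have : Finset.univ.filter (fun k : Fin (m + 2) => k ≠ i ∧ k ≠ j) = (Finset.univ.erase i).erase j := by
    ext k; simp [and_comm]
  rw [this, Finset.card_erase_of_mem (by simp [Ne.symm hij]),
    Finset.card_erase_of_mem (Finset.mem_univ _), Finset.card_univ, Fintype.card_fin]
  omega

theorem card_GL_succ (m : ℕ) :
    Nat.card (GL (Fin (m + 1)) F) =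
      (Fintype.card F ^ (m + 1) - 1) * Fintype.card F ^ m * Nat.card (GL (Fin m) F) := by
  rw [Matrix.card_GL_field, Matrix.card_GL_field, Fin.prod_univ_succ]
  simp only [Fin.val_zero, pow_zero, Fin.val_succ]
  have : ∀ i : Fin m, Fintype.card F ^ (m + 1) - Fintype.card F ^ (i.1 + 1) =
      Fintype.card F * (Fintype.card F ^ m - Fintype.card F ^ i.1) := by
    intro i; rw [Nat.mul_sub, pow_succ', pow_succ']
  simp only [this, Finset.prod_mul_distrib, Finset.prod_const, Finset.card_univ, Fintype.card_fin]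
  ring

theorem support_comp {m : ℕ} [DecidableEq F] (c : Fin (m + 1) → F) (i : Fin (m + 1)) (hi : c i ≠ 0) :
    (Finset.univ.filter fun k => (c ∘ i.succAbove) k ≠ 0).card + 1 =
      (Finset.univ.filter fun k => c k ≠ 0).card := by
  have : (Finset.univ.filter fun k => c k ≠ 0) = insert i
      ((Finset.univ.filter fun k => (c ∘ i.succAbove) k ≠ 0).map i.succAboveEmb) := by
    ext k
    rcases Fin.eq_self_or_eq_succAbove i k with rfl | ⟨l, rfl⟩
    · simp [hi]
    · simp [Fin.succAbove_ne]
  rw [this, Finset.card_insert_of_notMem (by simp [Fin.succAbove_ne]), Finset.card_map]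

open Classical in
theorem iso_bound (hq : 3 ≤ Fintype.card F) (h2 : (2 : F) ≠ 0) :
    ∀ (n : ℕ) (c : Fin n → F), 2 ≤ (Finset.univ.filter fun k => c k ≠ 0).card →
      Nat.card (Iso c) * ((Fintype.card F ^ n - 1) * (Fintype.card F ^ n - Fintype.card F)) ≤
        2 * (Fintype.card F + 1) * Nat.card (GL (Fin n) F) := by
  intro n
  induction n with
  | zero => intro c hc; simp at hc
  | succ m ih =>
    intro c hc
    obtain ⟨i, hi⟩ := Finset.card_pos.mp (lt_of_lt_of_le two_pos hc)
    have hi' : c i ≠ 0 := (Finset.mem_filter.mp hi).2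
    have hsup := support_comp c i hi'
    set q := Fintype.card F
    by_cases h3 : 3 ≤ (Finset.univ.filter fun k => c k ≠ 0).card
    · have hm : 2 ≤ m := by
        have : (Finset.univ.filter fun k => c k ≠ 0).card ≤ m + 1 :=
          (Finset.card_le_univ _).trans_eq (Fintype.card_fin _)
        omega
      have h' := ih (c ∘ i.succAbove) (by omega)
      have hstep := (iso_step c i hi').trans
        (Nat.mul_le_mul_right _ (count_value c i hi' (c i)))
      rw [card_GL_succ]
      set a := q ^ m with ha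
      set b := Nat.card (Iso (c ∘ i.succAbove))
      set g := Nat.card (GL (Fin m) F)
      have hqa : 3 * q ≤ a := by
        calc 3 * q ≤ q * q := Nat.mul_le_mul_right _ hq
          _ = q ^ 2 := (sq q).symm
          _ ≤ a := Nat.pow_le_pow_right (by omega) hm
      have hpow : q ^ (m + 1) = q * a := by rw [pow_succ', ha]
      rw [hpow]
      have e1 : q * a - q = q * (a - 1) := by rw [Nat.mul_sub, mul_one]
      have e2 : 2 * (q * (a - 1)) ≤ (a - 1) * (a - q) := by
        rw [← mul_assoc, mul_comm (a - 1)]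
        exact Nat.mul_le_mul_right _ (by omega)
      calc Nat.card (Iso c) * ((q * a - 1) * (q * a - q))
          ≤ 2 * a * b * ((q * a - 1) * (q * a - q)) := Nat.mul_le_mul_right _ hstep
        _ = (q * a - 1) * a * (b * (2 * (q * (a - 1)))) := by rw [e1]; ring
        _ ≤ (q * a - 1) * a * (b * ((a - 1) * (a - q))) := by gcongr
        _ ≤ (q * a - 1) * a * (2 * (q + 1) * g) := Nat.mul_le_mul_left _ h'
        _ = 2 * (q + 1) * ((q * a - 1) * a * g) := by ring
    · -- exactly two non-zero entries
      have hone : (Finset.univ.filter fun k => (c ∘ i.succAbove) k ≠ 0).card = 1 := by omega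
      obtain ⟨l, hl⟩ := Finset.card_eq_one.mp hone
      have hl' : (c ∘ i.succAbove) l ≠ 0 := by
        have := Finset.mem_singleton_self l
        rw [← hl, Finset.mem_filter] at this
        exact this.2
      obtain ⟨k, rfl⟩ : ∃ k, m = k + 1 := ⟨m - 1, by have := l.2; omega⟩
      have h0 : ∀ x, x ≠ i → x ≠ i.succAbove l → c x = 0 := by
        intro x hxi hxl
        obtain ⟨y, rfl⟩ := Fin.exists_succAbove_eq hxi
        by_contra hne
        have : y ∈ ({l} : Finset _) := hl ▸ Finset.mem_filter.mpr ⟨Finset.mem_univ _, hne⟩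
        exact hxl (by rw [Finset.mem_singleton.mp this])
      have hconic := count_conic h2 c (Ne.symm (Fin.succAbove_ne i l)) hi' hl' h0
      have hlast : Nat.card (Iso ((c ∘ i.succAbove) ∘ l.succAbove)) ≤ Nat.card (GL (Fin k) F) :=
        Nat.card_le_card_of_injective (fun A => A.1) Subtype.val_injective
      have hs2 : Nat.card (Iso (c ∘ i.succAbove)) ≤ 2 * q ^ k * Nat.card (GL (Fin k) F) :=
        (iso_step _ l hl').trans (Nat.mul_le_mul (count_value _ l hl' _) hlast)
      have hstep : Nat.card (Iso c) ≤ (q + 1) * q ^ k * (2 * q ^ k * Nat.card (GL (Fin k) F)) :=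
        (iso_step c i hi').trans (Nat.mul_le_mul hconic hs2)
      rw [card_GL_succ, card_GL_succ]
      have e1 : q ^ (k + 1 + 1) - q = q * (q ^ (k + 1) - 1) := by
        rw [Nat.mul_sub, mul_one, ← pow_succ']
      refine (Nat.mul_le_mul_right _ hstep).trans_eq ?_
      rw [e1, pow_succ q k]
      ring

/-- a symmetric matrix which is not a multiple of `x xᵀ` has a large congruence orbit -/
theorem orbit_ge {n : ℕ} (hn : 1 ≤ n) (hq : 3 ≤ Fintype.card F) (h2 : (2 : F) ≠ 0)
    {S : Matrix (Fin n) (Fin n) F} (hS : S.IsSymm) (hnl : ¬ IsLine S) :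
    (Fintype.card F ^ n - 1) * (Fintype.card F ^ n - Fintype.card F) ≤
      2 * (Fintype.card F + 1) *
        (Set.range fun B : GL (Fin n) F => cong (B : Matrix (Fin n) (Fin n) F) S).ncard := by
  classical
  obtain ⟨B₀, c, hD⟩ := exists_diagonal_cong h2 S hS
  have hS' : S = cong ((B₀⁻¹ : GL (Fin n) F) : Matrix (Fin n) (Fin n) F) (Matrix.diagonal c) := by
    rw [← hD, cong_cong, ← Units.val_mul, mul_inv_cancel]
    simp [cong]
  have hsup : 2 ≤ (Finset.univ.filter fun k => c k ≠ 0).card := by
    by_contra h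
    apply hnl
    obtain ⟨i, hi⟩ : ∃ i, ∀ k, k ≠ i → c k = 0 := by
      by_cases he : ∃ i, c i ≠ 0
      · obtain ⟨i, hi⟩ := he
        refine ⟨i, fun k hk => ?_⟩
        by_contra hck
        have : 1 < (Finset.univ.filter fun k => c k ≠ 0).card := Finset.one_lt_card.mpr
          ⟨k, Finset.mem_filter.mpr ⟨Finset.mem_univ _, hck⟩, i,
            Finset.mem_filter.mpr ⟨Finset.mem_univ _, hi⟩, hk⟩
        omega
      · push_neg at he
        exact ⟨⟨0, hn⟩, fun k _ => he k⟩
    refine ⟨c i, fun k => ((B₀⁻¹ : GL (Fin n) F) : Matrix (Fin n) (Fin n) F) i k, ?_⟩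
    conv_lhs => rw [hS']
    ext k l
    rw [cong_diag_apply, Finset.sum_eq_single i]
    · simp [Matrix.vecMulVec_apply]; ring
    · intro x _ hx; simp [hi x hx]
    · simp
  haveI : Finite (Iso c) := Subtype.finite
  set O := Set.range fun B : GL (Fin n) F => cong (B : Matrix (Fin n) (Fin n) F) S
  choose rep hrep using fun T : O => T.2
  -- every element is a representative times an isometry
  have hinj : Function.Injective (fun B : GL (Fin n) F =>
      ((⟨cong (B : Matrix (Fin n) (Fin n) F) S, B, rfl⟩ : O),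
        (⟨B₀⁻¹ * (B * (rep ⟨cong (B : Matrix (Fin n) (Fin n) F) S, B, rfl⟩)⁻¹) * B₀, by
          have h := hrep ⟨cong (B : Matrix (Fin n) (Fin n) F) S, B, rfl⟩
          set R := rep ⟨cong (B : Matrix (Fin n) (Fin n) F) S, B, rfl⟩
          simp only at h
          rw [Units.val_mul, Units.val_mul, Units.val_mul, ← cong_cong, ← cong_cong, ← cong_cong,
            ← hS', ← h, cong_cong _ _ S, ← Units.val_mul, mul_inv_cancel, ← hD]
          simp [cong]⟩ : Iso c))) := by
    intro B B' h
    simp only [Prod.mk.injEq] at h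
    obtain ⟨h1, h2'⟩ := h
    have := congrArg Subtype.val h2'
    simp only [h1, mul_left_inj, mul_right_inj] at this
    exact this
  have hle := Nat.card_le_card_of_injective _ hinj
  rw [Nat.card_prod, Nat.card_coe_set_eq] at hle
  have hb := iso_bound hq h2 n c hsup
  set q := Fintype.card F
  set P := (q ^ n - 1) * (q ^ n - q)
  have hkey : Nat.card (Iso c) * P ≤ Nat.card (Iso c) * (2 * (q + 1) * O.ncard) :=
    calc Nat.card (Iso c) * P ≤ 2 * (q + 1) * Nat.card (GL (Fin n) F) := hb
      _ ≤ 2 * (q + 1) * (O.ncard * Nat.card (Iso c)) := Nat.mul_le_mul_left _ hle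
      _ = _ := by ring
  refine Nat.le_of_mul_le_mul_left hkey ?_
  haveI : Nonempty (Iso c) := ⟨⟨1, by simp [cong]⟩⟩
  exact Nat.card_pos

end Cfsg.Agent.H53.Weil
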