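import Cfsg.Agent.H53.Weil.Local

/-!
The subrepresentation generated by one weight vector of rank one.
-/

set_option autoImplicit false

namespace Cfsg.Agent.H53.Weil

open Cfsg.Agent.Symplectic
open scoped Matrix

noncomputable section

variable {n : ℕ} {F : Type*} [Field F] [Fintype F] {V : Type*} [AddCommGroup V] [Module ℂ V]

local notation "Sp" => Matrix.symplecticGroup (Fin n) F

theorem proj_uEl {ρ : Representation ℂ (Matrix.symplecticGroup (Fin n) F) V}
    (S : Matrix (Fin n) (Fin n) F) (X : symMat n F) (v : V) :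
    proj ρ S (ρ (uEl X) v) = eChar F (trMap S X) • proj ρ S v := by
  classical
  rw [← proj_mem ρ S v X, proj_apply ρ, proj_apply ρ, map_smul, map_sum]
  congr 1
  refine Finset.sum_congr rfl fun Y _ => ?_
  rw [map_smul, ← Module.End.mul_apply, ← map_mul, ← Module.End.mul_apply, ← map_mul, uEl_mul,
    uEl_mul, add_comm]

/-- the first part of the generated subrepresentation -/
def orbitSpan (ρ : Representation ℂ (Matrix.symplecticGroup (Fin n) F) V) (m : V) : Submodule ℂ V :=
  Submodule.span ℂ (Set.range fun g : GL (Fin n) F => ρ (lEl g) m)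

/-- the generated subrepresentation -/
def genSpace (ρ : Representation ℂ (Matrix.symplecticGroup (Fin n) F) V) (i₀ : Fin n) (m : V) :
    Submodule ℂ V :=
  orbitSpan ρ m ⊔ Submodule.span ℂ {ρ (wEl i₀) m}

/-- a weight vector generating data -/
structure Gen (ρ : Representation ℂ (Matrix.symplecticGroup (Fin n) F) V) (i₀ : Fin n) (a : F)
    (m : V) : Prop where
  two_le : 2 ≤ n
  two : (2 : F) ≠ 0
  small : Small ρ
  ha : a ≠ 0
  wt : m ∈ wtSpace ρ (vv a (Pi.single i₀ 1))
  parity : ∃ δ : ℂ, ∀ v, ρ (lEl (-1 : GL (Fin n) F)) v = δ • v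

variable {ρ : Representation ℂ (Matrix.symplecticGroup (Fin n) F) V} {i₀ : Fin n} {a : F} {m : V}

omit [Fintype F] in
theorem orbitSpan_lEl {v : V} (hv : v ∈ orbitSpan ρ m) (g : GL (Fin n) F) :
    ρ (lEl g) v ∈ orbitSpan ρ m := by
  induction hv using Submodule.span_induction with
  | mem _ h =>
    obtain ⟨g', rfl⟩ := h
    refine Submodule.subset_span ⟨g * g', ?_⟩
    show ρ (lEl (g * g')) m = _
    rw [← lEl_mul, map_mul, Module.End.mul_apply]
  | zero => simp
  | add _ _ _ _ h h' => rw [map_add]; exact Submodule.add_mem _ h h'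
  | smul c _ _ h => rw [map_smul]; exact Submodule.smul_mem _ c h

omit [Fintype F] in
theorem mem_orbitSpan (g : GL (Fin n) F) : ρ (lEl g) m ∈ orbitSpan ρ m :=
  Submodule.subset_span ⟨g, rfl⟩

omit [Fintype F] in
theorem exists_ne (hn : 2 ≤ n) (k : Fin n) : ∃ l, l ≠ k := by
  haveI : Nontrivial (Fin n) := Fin.nontrivial_iff_two_le.mpr hn
  exact _root_.exists_ne k

omit [Fintype F] in
theorem exists_gl (i₀ : Fin n) {y : Fin n → F} (hy : y ≠ 0) :
    ∃ g : GL (Fin n) F, (g : Matrix (Fin n) (Fin n) F) *ᵥ Pi.single i₀ 1 = y := by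
  obtain ⟨B, hB⟩ := gl_exists_mulVec (φ₀ := (Pi.single i₀ 1 : Fin n → F)) (φ := y)
    (fun h => by simpa using congrFun h i₀) hy
  have hu : IsUnit (B : Matrix (Fin n) (Fin n) F)ᵀ := (Matrix.isUnit_transpose _).mpr B.isUnit
  exact ⟨hu.unit, by rw [IsUnit.unit_spec]; exact hB⟩

omit [Fintype F] in
theorem gl_ne_zero (g : GL (Fin n) F) {y : Fin n → F} (hy : y ≠ 0) :
    (g : Matrix (Fin n) (Fin n) F) *ᵥ y ≠ 0 := fun h => hy (by
  have := congrArg (((g⁻¹ : GL (Fin n) F) : Matrix (Fin n) (Fin n) F) *ᵥ ·) h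
  simpa [Matrix.mulVec_mulVec] using this)

omit [Fintype F] in
theorem trvec_symO_eq (a : F) (i : Fin n) (d : F) (k l : Fin n) (h : k ≠ i ∨ l ≠ i) :
    2 * a * d * (Pi.single i (1 : F) : Fin n → F) k * (Pi.single i (1 : F) : Fin n → F) l = 0 := by
  rcases h with h | h <;> simp [h]

namespace Gen

variable (H : Gen ρ i₀ a m)

include H

theorem e_ne : (Pi.single i₀ 1 : Fin n → F) ≠ 0 := fun h => by simpa using congrFun h i₀

theorem wt_orbit (g : GL (Fin n) F) :
    ρ (lEl g) m ∈ wtSpace ρ (vv a ((g : Matrix (Fin n) (Fin n) F) *ᵥ Pi.single i₀ 1)) :=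
  lEl_mem_vv ρ H.wt g

theorem line {g g' : GL (Fin n) F}
    (h : (g : Matrix (Fin n) (Fin n) F) *ᵥ Pi.single i₀ 1 = (g' : Matrix (Fin n) (Fin n) F) *ᵥ Pi.single i₀ 1) :
    ρ (lEl g) m ∈ Submodule.span ℂ {ρ (lEl g') m} := by
  obtain ⟨κ, hκ⟩ := stab_scalar H.two H.small H.ha H.e_ne (g'⁻¹ * g) (by
    rw [Units.val_mul, ← Matrix.mulVec_mulVec, h, Matrix.mulVec_mulVec, Units.inv_mul,
      Matrix.one_mulVec]) H.wt
  refine Submodule.mem_span_singleton.mpr ⟨κ, ?_⟩
  rw [← map_smul, ← hκ, ← Module.End.mul_apply, ← map_mul, lEl_mul, mul_inv_cancel_left]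

theorem line_neg {g g' : GL (Fin n) F}
    (h : (g : Matrix (Fin n) (Fin n) F) *ᵥ Pi.single i₀ 1 = -((g' : Matrix (Fin n) (Fin n) F) *ᵥ Pi.single i₀ 1)) :
    ρ (lEl g) m ∈ Submodule.span ℂ {ρ (lEl g') m} := by
  obtain ⟨δ, hδ⟩ := H.parity
  have h' := H.line (g := -1 * g) (g' := g') (by
    rw [Units.val_mul, ← Matrix.mulVec_mulVec, h, Units.val_neg, Units.val_one, Matrix.neg_mulVec,
      Matrix.one_mulVec, neg_neg])
  have e : ρ (lEl g) m = δ • ρ (lEl (-1 * g)) m := by
    rw [← hδ, ← Module.End.mul_apply, ← map_mul, lEl_mul, ← mul_assoc]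
    simp
  rw [e]
  exact Submodule.smul_mem _ δ h'

theorem uEl_orbit {v : V} (hv : v ∈ orbitSpan ρ m) (X : symMat n F) :
    ρ (uEl X) v ∈ orbitSpan ρ m := by
  induction hv using Submodule.span_induction with
  | mem _ h =>
    obtain ⟨g, rfl⟩ := h
    rw [H.wt_orbit g X]
    exact Submodule.smul_mem _ _ (mem_orbitSpan g)
  | zero => simp
  | add _ _ _ _ h h' => rw [map_add]; exact Submodule.add_mem _ h h'
  | smul c _ _ h => rw [map_smul]; exact Submodule.smul_mem _ c h

theorem w_generic (k l : Fin n) (hkl : k ≠ l) (g : GL (Fin n) F)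
    (hl : ((g : Matrix (Fin n) (Fin n) F) *ᵥ Pi.single i₀ 1) l ≠ 0) :
    ρ (wEl k) (ρ (lEl g) m) ∈ orbitSpan ρ m := by
  set y := (g : Matrix (Fin n) (Fin n) F) *ᵥ Pi.single i₀ 1 with hy
  set b := y k / y l
  let g₀ := tGL k l hkl (-b) * g
  have hg₀ : (g₀ : Matrix (Fin n) (Fin n) F) *ᵥ Pi.single i₀ 1 = Function.update y k 0 := by
    rw [Units.val_mul, ← Matrix.mulVec_mulVec, ← hy, tGL_upd]
    congr 1
    rw [neg_mul, div_mul_cancel₀ _ hl, add_neg_cancel]
  obtain ⟨κ, -, hκ⟩ := (local_action H.two H.small H.ha hkl (x := Function.update y k 0)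
    (Function.update_self _ _ _) (by rwa [Function.update_of_ne (Ne.symm hkl)])
    (hg₀ ▸ H.wt_orbit g₀)).1
  have hsplit : g = tGL k l hkl b * g₀ := by
    rw [← mul_assoc]
    have : tGL k l hkl b * tGL k l hkl (-b) = 1 := Units.ext (by
      show Matrix.transvection k l b * Matrix.transvection k l (-b) = 1
      rw [Matrix.transvection_mul_transvection_same k l hkl, add_neg_cancel, Matrix.transvection_zero])
    rw [this, one_mul]
  rw [hsplit, ← lEl_mul, map_mul, Module.End.mul_apply,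
    show ∀ v, ρ (wEl k) (ρ (lEl (tGL k l hkl b)) v) = ρ (uEl (symO k l b)) (ρ (wEl k) v) from fun v => by
      rw [← Module.End.mul_apply, ← map_mul, wEl_lEl_off, map_mul, Module.End.mul_apply], hκ]
  exact H.uEl_orbit (Submodule.smul_mem _ _ (Submodule.sum_mem _ fun c _ =>
    orbitSpan_lEl (mem_orbitSpan g₀) _)) _

theorem w_special (i k : Fin n) (hik : i ≠ k) (g g' : GL (Fin n) F) (t s : F) (ht : t ≠ 0) (hs : s ≠ 0)
    (hg : (g : Matrix (Fin n) (Fin n) F) *ᵥ Pi.single i₀ 1 = Pi.single i t)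
    (hg' : (g' : Matrix (Fin n) (Fin n) F) *ᵥ Pi.single i₀ 1 = Pi.single k s) :
    ρ (wEl i) (ρ (lEl g) m) ∈
      orbitSpan ρ m ⊔ Submodule.span ℂ {ρ (wEl k) (ρ (lEl g') m)} := by
  classical
  set u := ρ (lEl g) m
  obtain ⟨κ, hκ0, hκ⟩ := (local_action H.two H.small H.ha (Ne.symm hik) (x := Pi.single i t)
    (by simp [Ne.symm hik]) (by simpa using ht) (hg ▸ H.wt_orbit g)).1
  set N := fun b : F => ρ (lEl (tGL k i (Ne.symm hik) b)) u
  set b₀ := s / t with hb₀
  have hpt : ∀ b, ((tGL k i (Ne.symm hik) b * g : GL (Fin n) F) : Matrix (Fin n) (Fin n) F) *ᵥ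
      Pi.single i₀ 1 = Function.update (Pi.single i t) k (b * t) := by
    intro b
    rw [Units.val_mul, ← Matrix.mulVec_mulVec, hg, tGL_upd]
    simp [Ne.symm hik]
  have hNeq : ∀ b, N b = ρ (lEl (tGL k i (Ne.symm hik) b * g)) m := fun b => by
    simp only [N, u]
    rw [← Module.End.mul_apply, ← map_mul, lEl_mul]
  set χ : F → ℂ := fun b => eChar F (2 * a * b₀ * (b * t) * t)
  have hNwt : ∀ b, ρ (uEl (symO k i b₀)) (N b) = χ b • N b := by
    intro b
    rw [hNeq, H.wt_orbit _ _, trMap_vv_symO, hpt]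
    simp [χ, hik]
  have e1 : ρ (wEl k) (N b₀) = κ • ∑ b, χ b • N b := by
    show ρ (wEl k) (ρ (lEl _) u) = _
    rw [← Module.End.mul_apply, ← map_mul, wEl_lEl_off, map_mul, Module.End.mul_apply, hκ, map_smul,
      map_sum]
    simp only [N] at hNwt ⊢
    simp only [hNwt]
  have h0 : χ 0 • N 0 = u := by
    have : tGL k i (Ne.symm hik) (0 : F) = 1 := Units.ext (by simp [tGL])
    simp [χ, N, this, lEl_one]
  have e2 : κ • u = ρ (wEl k) (N b₀) - κ • ∑ b ∈ Finset.univ.erase 0, χ b • N b := by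
    rw [e1, ← Finset.add_sum_erase _ _ (Finset.mem_univ (0 : F)), h0, smul_add, add_sub_cancel_right]
  have hgen : ∀ b, b ≠ 0 → ρ (wEl i) (N b) ∈ orbitSpan ρ m := by
    intro b hb
    rw [hNeq]
    refine H.w_generic i k hik _ ?_
    rw [hpt, Function.update_self]
    exact mul_ne_zero hb ht
  -- the term at the chosen point
  have hmain : ρ (wEl i) (ρ (wEl k) (N b₀)) ∈
      orbitSpan ρ m ⊔ Submodule.span ℂ {ρ (wEl k) (ρ (lEl g') m)} := by
    rw [show ρ (wEl i) (ρ (wEl k) (N b₀)) = ρ (wEl k) (ρ (wEl i) (N b₀)) by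
      rw [← Module.End.mul_apply, ← map_mul, wEl_comm, map_mul]; rfl]
    let g₁ := tGL k i (Ne.symm hik) b₀ * g
    let g₀ := tGL i k hik (-(t / s)) * g₁
    have hg₁ : (g₁ : Matrix (Fin n) (Fin n) F) *ᵥ Pi.single i₀ 1 = Function.update (Pi.single i t) k s := by
      rw [hpt, hb₀, div_mul_cancel₀ _ ht]
    have hg₀ : (g₀ : Matrix (Fin n) (Fin n) F) *ᵥ Pi.single i₀ 1 = Pi.single k s := by
      rw [Units.val_mul, ← Matrix.mulVec_mulVec, hg₁, tGL_upd]
      funext l
      by_cases hl : l = i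
      · subst hl
        simp [hik, div_mul_cancel₀ _ hs]
      · by_cases hl' : l = k
        · subst hl'; simp [hl]
        · simp [hl, hl']
    obtain ⟨κ', -, hκ'⟩ := (local_action H.two H.small H.ha hik (x := Pi.single k s)
      (by simp [hik]) (by simpa using hs) (hg₀ ▸ H.wt_orbit g₀)).1
    set N' := fun b : F => ρ (lEl (tGL i k hik b)) (ρ (lEl g₀) m)
    have hNb : N b₀ = N' (t / s) := by
      rw [hNeq]
      simp only [N', g₀]
      rw [← Module.End.mul_apply, ← map_mul, lEl_mul, ← mul_assoc]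
      congr 3
      have : tGL i k hik (t / s) * tGL i k hik (-(t / s)) = 1 := Units.ext (by
        show Matrix.transvection i k (t / s) * Matrix.transvection i k (-(t / s)) = 1
        rw [Matrix.transvection_mul_transvection_same i k hik, add_neg_cancel, Matrix.transvection_zero])
      rw [this, one_mul]
    rw [hNb]
    show ρ (wEl k) (ρ (wEl i) (ρ (lEl _) _)) ∈ _
    rw [show ∀ v, ρ (wEl i) (ρ (lEl (tGL i k hik (t / s))) v) =
        ρ (uEl (symO i k (t / s))) (ρ (wEl i) v) from fun v => by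
      rw [← Module.End.mul_apply, ← map_mul, wEl_lEl_off, map_mul, Module.End.mul_apply], hκ']
    simp only [map_smul, map_sum]
    refine Submodule.smul_mem _ _ (Submodule.sum_mem _ fun b _ => ?_)
    have hb : ((tGL i k hik b * g₀ : GL (Fin n) F) : Matrix (Fin n) (Fin n) F) *ᵥ Pi.single i₀ 1 =
        Function.update (Pi.single k s) i (b * s) := by
      rw [Units.val_mul, ← Matrix.mulVec_mulVec, hg₀, tGL_upd]
      simp [hik]
    have hNb' : ρ (lEl (tGL i k hik b)) (ρ (lEl g₀) m) = ρ (lEl (tGL i k hik b * g₀)) m := by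
      rw [← Module.End.mul_apply, ← map_mul, lEl_mul]
    show ρ (wEl k) (ρ (uEl _) (ρ (lEl (tGL i k hik b)) (ρ (lEl g₀) m))) ∈ _
    rw [hNb', H.wt_orbit _ _, map_smul]
    refine Submodule.smul_mem _ _ ?_
    by_cases hb0 : b = 0
    · refine Submodule.mem_sup_right ?_
      subst hb0
      have := H.line (g := tGL i k hik 0 * g₀) (g' := g') (by
        rw [hb, hg', zero_mul]
        funext l; by_cases hl : l = i <;> simp [hl, hik])
      obtain ⟨c, hc⟩ := Submodule.mem_span_singleton.mp this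
      rw [← hc, map_smul]
      exact Submodule.smul_mem _ _ (Submodule.mem_span_singleton_self _)
    · refine Submodule.mem_sup_left (H.w_generic k i (Ne.symm hik) _ ?_)
      rw [hb, Function.update_self]
      exact mul_ne_zero hb0 hs
  have hu : u = κ⁻¹ • (κ • u) := (inv_smul_smul₀ hκ0 u).symm
  rw [hu, e2, map_smul, map_sub, map_smul, map_sum]
  refine Submodule.smul_mem _ _ (Submodule.sub_mem _ hmain (Submodule.smul_mem _ _
    (Submodule.sum_mem _ fun b hb => ?_)))
  rw [map_smul]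
  exact Submodule.smul_mem _ _ (Submodule.mem_sup_left (hgen b (Finset.mem_erase.mp hb).1))

theorem w_orbit_mem (k : Fin n) (g : GL (Fin n) F) :
    ρ (wEl k) (ρ (lEl g) m) ∈ genSpace ρ i₀ m := by
  set y := (g : Matrix (Fin n) (Fin n) F) *ᵥ Pi.single i₀ 1 with hy
  by_cases hgen : ∃ l, l ≠ k ∧ y l ≠ 0
  · obtain ⟨l, hl, hyl⟩ := hgen
    exact Submodule.mem_sup_left (H.w_generic k l (Ne.symm hl) g hyl)
  push_neg at hgen
  have hyk : y = Pi.single k (y k) := by
    funext l
    by_cases hl : l = k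
    · subst hl; simp
    · simp [hl, hgen l hl]
  have hyk0 : y k ≠ 0 := fun h => gl_ne_zero g H.e_ne (hy.symm.trans (by rw [hyk, h]; simp))
  have h1 : ((1 : GL (Fin n) F) : Matrix (Fin n) (Fin n) F) *ᵥ Pi.single i₀ 1 = Pi.single i₀ 1 := by
    rw [Units.val_one, Matrix.one_mulVec]
  have hz : ρ (lEl (1 : GL (Fin n) F)) m = m := by rw [lEl_one, map_one, Module.End.one_apply]
  have hone : ∀ (i : Fin n) (g : GL (Fin n) F) (t : F), i ≠ i₀ → t ≠ 0 →
      (g : Matrix (Fin n) (Fin n) F) *ᵥ Pi.single i₀ 1 = Pi.single i t →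
      ρ (wEl i) (ρ (lEl g) m) ∈ genSpace ρ i₀ m := by
    intro i g t hi ht hg
    have := H.w_special i i₀ hi g 1 t 1 ht one_ne_zero hg h1
    rwa [hz] at this
  by_cases hk : k = i₀
  · obtain ⟨l, hl⟩ := exists_ne H.two_le k
    obtain ⟨g', hg'⟩ := exists_gl i₀ (y := (Pi.single l 1 : Fin n → F))
      (fun h => by simpa using congrFun h l)
    have h' := H.w_special k l (Ne.symm hl) g g' (y k) 1 hyk0 one_ne_zero (hy.symm.trans hyk) hg'
    refine (sup_le le_sup_left ?_ : _ ≤ genSpace ρ i₀ m) h'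
    rw [Submodule.span_singleton_le_iff_mem]
    exact hone l g' 1 (hk ▸ hl) one_ne_zero hg'
  · exact hone k g (y k) hk hyk0 (hy.symm.trans hyk)

theorem w_orbitSpan {v : V} (hv : v ∈ orbitSpan ρ m) (k : Fin n) :
    ρ (wEl k) v ∈ genSpace ρ i₀ m := by
  induction hv using Submodule.span_induction with
  | mem _ h => obtain ⟨g, rfl⟩ := h; exact H.w_orbit_mem k g
  | zero => simp
  | add _ _ _ _ h h' => rw [map_add]; exact Submodule.add_mem _ h h'
  | smul c _ _ h => rw [map_smul]; exact Submodule.smul_mem _ c h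

/-- every Weyl element can be used for the extra vector -/
theorem z_decomp (k : Fin n) : ∃ y ∈ orbitSpan ρ m, ∃ u ∈ orbitSpan ρ m,
    ρ (wEl i₀) m = y + ρ (wEl k) u := by
  by_cases hk : k = i₀
  · refine ⟨0, Submodule.zero_mem _, m, ?_, by rw [hk, zero_add]⟩
    have := mem_orbitSpan (ρ := ρ) (m := m) (1 : GL (Fin n) F)
    rwa [lEl_one, map_one, Module.End.one_apply] at this
  obtain ⟨g', hg'⟩ := exists_gl i₀ (y := (Pi.single k 1 : Fin n → F))
    (fun h => by simpa using congrFun h k)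
  have h := H.w_special i₀ k (Ne.symm hk) 1 g' 1 1 one_ne_zero one_ne_zero
    (by rw [Units.val_one, Matrix.one_mulVec]) hg'
  rw [lEl_one, map_one, Module.End.one_apply, Submodule.mem_sup] at h
  obtain ⟨y, hy, z, hz, hyz⟩ := h
  obtain ⟨c, rfl⟩ := Submodule.mem_span_singleton.mp hz
  exact ⟨y, hy, c • ρ (lEl g') m, Submodule.smul_mem _ _ (mem_orbitSpan g'), by rw [map_smul, hyz]⟩

theorem stable (g : Sp) {v : V} (hv : v ∈ genSpace ρ i₀ m) : ρ g v ∈ genSpace ρ i₀ m := by
  classical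
  set Y := genSpace ρ i₀ m with hY
  let Mn : Submonoid (Matrix.symplecticGroup (Fin n) F) :=
    { carrier := {g | ∀ v ∈ Y, ρ g v ∈ Y}
      mul_mem' := fun {g g'} hg hg' v hv => by
        rw [map_mul, Module.End.mul_apply]; exact hg _ (hg' _ hv)
      one_mem' := fun v hv => by rw [map_one, Module.End.one_apply]; exact hv }
  let St : Subgroup (Matrix.symplecticGroup (Fin n) F) :=
    { Mn with
      inv_mem' := fun {g} hg => by
        have : g⁻¹ = g ^ (orderOf g - 1) := by
          refine inv_eq_of_mul_eq_one_right ?_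
          rw [← pow_succ', Nat.sub_add_cancel (orderOf_pos g), pow_orderOf_eq_one]
        show g⁻¹ ∈ Mn
        rw [this]
        exact pow_mem hg _ }
  -- to stabilise it suffices to treat both parts
  have hcrit : ∀ g, (∀ y ∈ orbitSpan ρ m, ρ g y ∈ Y) →
      (∃ k, ∀ u ∈ orbitSpan ρ m, ρ g (ρ (wEl k) u) ∈ Y) → g ∈ St := by
    rintro g h1 ⟨k, h2⟩ v hv
    obtain ⟨y, hy, z, hz, rfl⟩ := Submodule.mem_sup.mp hv
    obtain ⟨c, rfl⟩ := Submodule.mem_span_singleton.mp hz
    obtain ⟨y', hy', u, hu, hdec⟩ := H.z_decomp k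
    rw [hdec, map_add, map_smul, map_add]
    exact Y.add_mem (h1 y hy) (Y.smul_mem _ (Y.add_mem (h1 y' hy') (h2 u hu)))
  have hin : ∀ {y}, y ∈ orbitSpan ρ m → y ∈ Y := fun h => Submodule.mem_sup_left h
  have hswap : ∀ (g₁ g₂ g₃ g₄ : Sp) (v : V), g₁ * g₂ = g₃ * g₄ → ρ g₁ (ρ g₂ v) = ρ g₃ (ρ g₄ v) :=
    fun g₁ g₂ g₃ g₄ v h => by
      rw [← Module.End.mul_apply, ← map_mul, h, map_mul, Module.End.mul_apply]
  have hw : ∀ k, wEl k ∈ St := fun k => hcrit _ (fun y hy => H.w_orbitSpan hy k) ⟨k, fun u hu => by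
    rw [← Module.End.mul_apply, ← map_mul, wEl_sq]
    exact hin (orbitSpan_lEl hu _)⟩
  have hu : ∀ X, uEl X ∈ St := by
    intro X
    refine symMat_induction H.two (P := fun X => uEl X ∈ St) ?_ ?_ ?_ X
    · rw [uEl_zero]; exact St.one_mem
    · intro A B hA hB; rw [← uEl_mul]; exact St.mul_mem hA hB
    · intro p r d
      refine hcrit _ (fun y hy => hin (H.uEl_orbit hy _)) ?_
      by_cases hpr : p = r
      · obtain ⟨k, hk⟩ := exists_ne H.two_le p
        refine ⟨k, fun u hu => ?_⟩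
        rw [hswap _ _ _ _ u (wEl_uEl_comm k (symO p r d)
          (fun l => symO_col p r k (Ne.symm hk) (hpr ▸ Ne.symm hk) d l)).symm]
        exact hw k _ (hin (H.uEl_orbit hu _))
      · refine ⟨p, fun u hu => ?_⟩
        rw [hswap _ _ _ _ u (wEl_lEl_off p r hpr d).symm]
        exact hw p _ (hin (orbitSpan_lEl hu _))
  have hl : ∀ g, lEl g ∈ St := by
    intro g
    suffices h : ∀ (M : Matrix (Fin n) (Fin n) F), M.det ≠ 0 →
        ∀ g : GL (Fin n) F, (g : Matrix (Fin n) (Fin n) F) = M → lEl g ∈ St from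
      h _ ((Matrix.isUnit_iff_isUnit_det _).mp g.isUnit).ne_zero g rfl
    intro M hM
    refine Matrix.diagonal_transvection_induction_of_det_ne_zero
      (fun M => ∀ g : GL (Fin n) F, (g : Matrix (Fin n) (Fin n) F) = M → lEl g ∈ St) M hM ?_ ?_ ?_
    · intro D hD g hg
      have hD' : ∀ k, D k ≠ 0 := fun k h => hD (by
        rw [Matrix.det_diagonal]; exact Finset.prod_eq_zero (Finset.mem_univ k) h)
      let c : Fin n → Fˣ := fun k => Units.mk0 (D k) (hD' k)
      have : g = dGL c := Units.ext (by rw [hg]; rfl)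
      rw [this]
      refine hcrit _ (fun y hy => hin (orbitSpan_lEl hy _)) ⟨i₀, fun u hu => ?_⟩
      have e := wEl_dGL i₀ (Function.update c i₀ (c i₀)⁻¹)
      rw [Function.update_self, inv_inv, Function.update_idem, Function.update_eq_self] at e
      rw [hswap _ _ _ _ u e.symm]
      exact hw i₀ _ (hin (orbitSpan_lEl hu _))
    · rintro ⟨p, r, hpr, d⟩ g hg
      have : g = tGL p r hpr d := Units.ext (by rw [hg]; rfl)
      rw [this]
      refine hcrit _ (fun y hy => hin (orbitSpan_lEl hy _)) ⟨p, fun u hu => ?_⟩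
      have e := wEl_uEl_off p r hpr (-d)
      rw [neg_neg] at e
      rw [hswap _ _ _ _ u e.symm]
      exact hw p _ (hin (H.uEl_orbit hu _))
    · intro A B hA hB hPA hPB g hg
      let gA : GL (Fin n) F := Matrix.GeneralLinearGroup.mkOfDetNeZero A hA
      let gB : GL (Fin n) F := Matrix.GeneralLinearGroup.mkOfDetNeZero B hB
      have : g = gA * gB := Units.ext (by rw [hg]; rfl)
      rw [this, ← lEl_mul]
      exact St.mul_mem (hPA gA rfl) (hPB gB rfl)
  have htop := generate H.two i₀ St hu hl (hw i₀)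
  exact (htop ▸ Subgroup.mem_top g : g ∈ St) v hv

theorem two_mul_finrank_le :
    2 * Module.finrank ℂ (genSpace ρ i₀ m) ≤ Fintype.card F ^ n - 1 + 2 := by
  classical
  let s : Finset (Fin n → F) := Finset.univ.erase 0
  let f : (Fin n → F) → Matrix (Fin n) (Fin n) F := fun y => vv a y
  have hcard : 2 * (s.image f).card ≤ s.card := by
    rw [Finset.card_eq_sum_card_image f s, mul_comm, ← smul_eq_mul]
    refine Finset.card_nsmul_le_sum _ _ _ fun S hS => ?_
    obtain ⟨y, hy, rfl⟩ := Finset.mem_image.mp hS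
    have hy0 : y ≠ 0 := (Finset.mem_erase.mp hy).1
    have hne : y ≠ -y := fun h => hy0 (by
      funext l
      have := congrFun h l
      simp only [Pi.neg_apply, Pi.zero_apply] at this ⊢
      exact (mul_eq_zero.mp (show (2 : F) * y l = 0 by linear_combination this)).resolve_left H.two)
    have hsub : ({y, -y} : Finset _) ⊆ s.filter fun z => f z = f y := by
      intro z hz
      rcases Finset.mem_insert.mp hz with rfl | hz
      · simp [s, hy0]
      · rw [Finset.mem_singleton.mp hz, Finset.mem_filter, Finset.mem_erase]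
        refine ⟨⟨neg_ne_zero.mpr hy0, Finset.mem_univ _⟩, ?_⟩
        show vv a (-y) = vv a y
        ext p r
        simp [vv, Matrix.vecMulVec_apply]
    exact le_trans (by rw [Finset.card_pair hne]) (Finset.card_le_card hsub)
  have hs : s.card = Fintype.card F ^ n - 1 := by simp [s]
  have hex : ∀ S : ↥(s.image f), ∃ g : GL (Fin n) F,
      vv a ((g : Matrix (Fin n) (Fin n) F) *ᵥ Pi.single i₀ 1) = S.1 := fun S => by
    obtain ⟨y, hy, hS⟩ := Finset.mem_image.mp S.2
    obtain ⟨g, hg⟩ := exists_gl i₀ (Finset.mem_erase.mp hy).1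
    exact ⟨g, by rw [hg]; exact hS⟩
  choose pick hpick using hex
  let vec : ↥(s.image f) → V := fun S => ρ (lEl (pick S)) m
  have hle : orbitSpan ρ m ≤ Submodule.span ℂ (Set.range vec) := by
    refine Submodule.span_le.mpr ?_
    rintro _ ⟨g, rfl⟩
    set y := (g : Matrix (Fin n) (Fin n) F) *ᵥ Pi.single i₀ 1
    have hy : f y ∈ s.image f := Finset.mem_image_of_mem f
      (Finset.mem_erase.mpr ⟨gl_ne_zero g H.e_ne, Finset.mem_univ _⟩)
    set y' := (pick ⟨f y, hy⟩ : Matrix (Fin n) (Fin n) F) *ᵥ Pi.single i₀ 1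
    have hp : vv a y' = vv a y := hpick ⟨f y, hy⟩
    obtain ⟨l, hl⟩ : ∃ l, y' l ≠ 0 := Function.ne_iff.mp (gl_ne_zero _ H.e_ne)
    have hent : ∀ k k', y' k * y' k' = y k * y k' := fun k k' => by
      have := congrFun (congrFun hp k) k'
      simp only [vv, Matrix.smul_apply, Matrix.vecMulVec_apply, smul_eq_mul] at this
      exact mul_left_cancel₀ H.ha this
    have hmem : ρ (lEl g) m ∈ Submodule.span ℂ {vec ⟨f y, hy⟩} := by
      rcases mul_self_eq_mul_self_iff.mp (hent l l).symm with h | h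
      · refine H.line (funext fun k => ?_)
        show y k = y' k
        have hk := hent k l
        rw [h] at hk
        exact (mul_right_cancel₀ hl hk).symm
      · refine H.line_neg (funext fun k => ?_)
        show y k = -y' k
        have hk := hent k l
        rw [h] at hk
        exact mul_right_cancel₀ hl (show y k * y' l = -y' k * y' l by linear_combination hk)
    exact Submodule.span_mono (Set.singleton_subset_iff.mpr (Set.mem_range_self _)) hmem
  haveI : FiniteDimensional ℂ (Submodule.span ℂ (Set.range vec)) :=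
    FiniteDimensional.span_of_finite ℂ (Set.finite_range vec)
  haveI : FiniteDimensional ℂ (orbitSpan ρ m) := Submodule.finiteDimensional_of_le hle
  have h1 : Module.finrank ℂ (orbitSpan ρ m) ≤ (s.image f).card :=
    (Submodule.finrank_mono hle).trans ((finrank_range_le_card vec).trans_eq (Fintype.card_coe _))
  have h2' : Module.finrank ℂ (genSpace ρ i₀ m) ≤
      Module.finrank ℂ (orbitSpan ρ m) + Module.finrank ℂ (Submodule.span ℂ {ρ (wEl i₀) m}) :=
    Submodule.finrank_add_le_finrank_add_finrank _ _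
  have h3 : Module.finrank ℂ (Submodule.span ℂ {ρ (wEl i₀) m}) ≤ 1 :=
    (finrank_span_le_card _).trans (by simp)
  omega

/-- the weight space of the generator in the generated subrepresentation -/
theorem weight_mem {a' : F} (ha' : a' ≠ 0) {v : V} (hv : v ∈ genSpace ρ i₀ m)
    (hw : v ∈ wtSpace ρ (vv a' (Pi.single i₀ 1))) (hv0 : v ≠ 0) :
    ∃ t : F, a * t ^ 2 = a' ∧ (a' = a → v ∈ Submodule.span ℂ {m}) := by
  classical
  obtain ⟨k, hk⟩ := exists_ne H.two_le i₀
  obtain ⟨gk, hgk⟩ := exists_gl i₀ (y := (Pi.single k 1 : Fin n → F))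
    (fun h => by simpa using congrFun h k)
  set v' := ρ (lEl gk) v
  set S := vv a' (Pi.single k 1 : Fin n → F)
  have hv' : v' ∈ wtSpace ρ S := by
    have := lEl_mem_vv ρ hw gk
    rwa [hgk] at this
  have hv'0 : v' ≠ 0 := fun h => hv0 (by
    have := congrArg (ρ (lEl gk)⁻¹) h
    simpa [v', ← Module.End.mul_apply, ← map_mul] using this)
  -- the projection kills the extra vector
  have hz : proj ρ S (ρ (wEl i₀) m) = 0 := by
    obtain ⟨d, hd⟩ := eChar_exists_ne (F := F) (mul_ne_zero H.two ha')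
    have hfix : ρ (uEl (symO k k d)) (ρ (wEl i₀) m) = ρ (wEl i₀) m := by
      rw [← Module.End.mul_apply, ← map_mul, ← wEl_uEl_comm i₀ (symO k k d)
        (fun l => symO_col k k i₀ hk hk d l), map_mul, Module.End.mul_apply, H.wt, trMap_vv_symO]
      simp [hk]
    have h := proj_uEl (ρ := ρ) S (symO k k d) (ρ (wEl i₀) m)
    rw [hfix, trMap_vv_symO] at h
    simp only [Pi.single_eq_same, mul_one] at h
    by_contra hne
    exact hd (smul_left_injective ℂ hne (show eChar F (2 * a' * d) • _ = (1 : ℂ) • _ by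
      rw [one_smul]; exact h.symm))
  have hproj : proj ρ S v' = v' := proj_of_mem_self ρ hv'
  -- the contributing lines
  have key : ∀ g : GL (Fin n) F, proj ρ S (ρ (lEl g) m) ≠ 0 →
      ∃ t, a * t ^ 2 = a' ∧ (g : Matrix (Fin n) (Fin n) F) *ᵥ Pi.single i₀ 1 = Pi.single k t := by
    intro g hg
    have hS : S = vv a ((g : Matrix (Fin n) (Fin n) F) *ᵥ Pi.single i₀ 1) := by
      by_contra h
      exact hg (proj_of_mem_ne ρ H.two (vv_isSymm _ _) (vv_isSymm _ _) h (H.wt_orbit g))
    set y := (g : Matrix (Fin n) (Fin n) F) *ᵥ Pi.single i₀ 1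
    have hent : ∀ p r, a' * ((Pi.single k 1 : Fin n → F) p * (Pi.single k 1 : Fin n → F) r) =
        a * (y p * y r) := fun p r => by
      have := congrFun (congrFun hS p) r
      simpa only [S, vv, Matrix.smul_apply, Matrix.vecMulVec_apply, smul_eq_mul] using this
    refine ⟨y k, ?_, funext fun l => ?_⟩
    · have := hent k k
      simp only [Pi.single_eq_same, mul_one] at this
      rw [this, sq]
    · by_cases hl : l = k
      · subst hl; simp
      · have := hent l l
        simp [hl, H.ha] at this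
        simp [hl, this]
  obtain ⟨g₀, hg₀⟩ : ∃ g : GL (Fin n) F, proj ρ S (ρ (lEl g) m) ≠ 0 := by
    by_contra h
    push_neg at h
    apply hv'0
    have hle : genSpace ρ i₀ m ≤ LinearMap.ker (proj ρ S) :=
      sup_le (Submodule.span_le.mpr (by rintro _ ⟨g, rfl⟩; exact h g))
        ((Submodule.span_singleton_le_iff_mem _ _).mpr hz)
    rw [← hproj]
    exact hle (H.stable _ hv)
  obtain ⟨t, hta, hgt⟩ := key g₀ hg₀
  refine ⟨t, hta, fun haa => ?_⟩
  set L := Submodule.span ℂ {ρ (lEl g₀) m}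
  have hL : ∀ w ∈ L, proj ρ S w = w := by
    intro w hw
    obtain ⟨c, rfl⟩ := Submodule.mem_span_singleton.mp hw
    have hS : S = vv a ((g₀ : Matrix (Fin n) (Fin n) F) *ᵥ Pi.single i₀ 1) := by
      by_contra h
      exact hg₀ (proj_of_mem_ne ρ H.two (vv_isSymm _ _) (vv_isSymm _ _) h (H.wt_orbit g₀))
    rw [map_smul, proj_of_mem_self ρ (hS ▸ H.wt_orbit g₀)]
  have hle : genSpace ρ i₀ m ≤ L.comap (proj ρ S) := by
    refine sup_le (Submodule.span_le.mpr ?_) ((Submodule.span_singleton_le_iff_mem _ _).mpr ?_)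
    · rintro _ ⟨g, rfl⟩
      show proj ρ S (ρ (lEl g) m) ∈ L
      by_cases hg : proj ρ S (ρ (lEl g) m) = 0
      · rw [hg]; exact L.zero_mem
      obtain ⟨t', hta', hgt'⟩ := key g hg
      have hmem : ρ (lEl g) m ∈ L := by
        rcases sq_eq_sq_iff_eq_or_eq_neg.mp (mul_left_cancel₀ H.ha (hta'.trans hta.symm)) with h | h
        · exact H.line (by rw [hgt', hgt, h])
        · exact H.line_neg (by rw [hgt', hgt, h, Pi.single_neg])
      rw [hL _ hmem]; exact hmem
    · show proj ρ S (ρ (wEl i₀) m) ∈ L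
      rw [hz]; exact L.zero_mem
  have hv'L : v' ∈ L := by
    have := hle (H.stable (lEl gk) hv)
    rwa [Submodule.mem_comap, hproj] at this
  obtain ⟨c, hc⟩ := Submodule.mem_span_singleton.mp hv'L
  have ht1 : t ^ 2 = 1 := mul_left_cancel₀ H.ha (by rw [hta, haa, mul_one])
  have hv_eq : v = c • ρ (lEl (gk⁻¹ * g₀)) m := by
    rw [← map_smul, ← lEl_mul, map_mul, Module.End.mul_apply]
    rw [map_smul (ρ (lEl g₀)), hc]
    show v = ρ (lEl gk⁻¹) (ρ (lEl gk) v)
    rw [← Module.End.mul_apply, ← map_mul, lEl_mul, inv_mul_cancel, lEl_one, map_one,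
      Module.End.one_apply]
  have hm1 : ρ (lEl (1 : GL (Fin n) F)) m = m := by rw [lEl_one, map_one, Module.End.one_apply]
  rw [hv_eq]
  refine Submodule.smul_mem _ _ ?_
  rw [← hm1]
  conv in {ρ (lEl 1) m} => rw [hm1]
  have hinv : ((gk⁻¹ * g₀ : GL (Fin n) F) : Matrix (Fin n) (Fin n) F) *ᵥ Pi.single i₀ 1 =
      t • (Pi.single i₀ 1 : Fin n → F) := by
    rw [Units.val_mul, ← Matrix.mulVec_mulVec, hgt,
      show (Pi.single k t : Fin n → F) = t • Pi.single k 1 by simp [← Pi.single_smul],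
      Matrix.mulVec_smul, ← hgk, Matrix.mulVec_mulVec, Units.inv_mul, Matrix.one_mulVec]
  rcases sq_eq_one_iff.mp ht1 with h | h
  · have := H.line (g := gk⁻¹ * g₀) (g' := 1) (by
      rw [hinv, h, Units.val_one, Matrix.one_mulVec, one_smul])
    rw [hm1] at this ⊢
    exact this
  · have := H.line_neg (g := gk⁻¹ * g₀) (g' := 1) (by
      rw [hinv, h, Units.val_one, Matrix.one_mulVec, neg_one_smul])
    rw [hm1] at this ⊢
    exact this

end Gen

end

end Cfsg.Agent.H53.Weil
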