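import Cfsg.Agent.H53.Weil.Elements
import Cfsg.Agent.H53.Weil.Orbit

/-!
Weights of the Siegel unipotent group and representations with weights of rank at most one.
-/

set_option autoImplicit false

namespace Cfsg.Agent.H53.Weil

open Cfsg.Agent.Symplectic
open scoped Matrix

noncomputable section

variable {n : ℕ} {F : Type*} [Field F] [Fintype F] {V : Type*} [AddCommGroup V] [Module ℂ V]

local notation "Sp" => Matrix.symplecticGroup (Fin n) F

variable (ρ : Representation ℂ (Matrix.symplecticGroup (Fin n) F) V)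

/-- the weight vectors of a symmetric matrix -/
def wtSpace (S : Matrix (Fin n) (Fin n) F) : Submodule ℂ V where
  carrier := {v | ∀ X, ρ (uEl X) v = eChar F (trMap S X) • v}
  add_mem' {v w} hv hw X := by rw [map_add, hv X, hw X, smul_add]
  zero_mem' X := by simp
  smul_mem' c v hv X := by rw [map_smul, hv X, smul_comm]

theorem mem_wtSpace {S : Matrix (Fin n) (Fin n) F} {v : V} :
    v ∈ wtSpace ρ S ↔ ∀ X, ρ (uEl X) v = eChar F (trMap S X) • v := Iff.rfl

/-- the weight of a vector of `F^n` -/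
def vv (a : F) (x : Fin n → F) : Matrix (Fin n) (Fin n) F := a • Matrix.vecMulVec x x

theorem vv_isSymm (a : F) (x : Fin n → F) : (vv a x).IsSymm := by
  rw [Matrix.IsSymm, vv, Matrix.transpose_smul, Matrix.transpose_vecMulVec]

theorem trMap_vv (a : F) (x : Fin n → F) (X : symMat n F) :
    trMap (vv a x) X = a * (x ⬝ᵥ (X.1 *ᵥ x)) := by
  show (vv a x * X.1).trace = _
  rw [vv, Matrix.smul_mul, Matrix.trace_smul, Matrix.vecMulVec_mul, Matrix.trace_vecMulVec,
    smul_eq_mul, dotProduct_comm, Matrix.dotProduct_mulVec, dotProduct_comm]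

theorem trMap_vv_symO (a : F) (x : Fin n → F) (i j : Fin n) (b : F) :
    trMap (vv a x) (symO i j b) = 2 * a * b * x i * x j := by
  rw [trMap_vv, symO_mulVec, dotProduct_add, dotProduct_single, dotProduct_single]
  ring

theorem vv_conj (a : F) (x : Fin n → F) (g : Matrix (Fin n) (Fin n) F) :
    g * vv a x * gᵀ = vv a (g *ᵥ x) := by
  rw [vv, vv, Matrix.mul_smul, Matrix.smul_mul, Matrix.mul_vecMulVec, Matrix.vecMulVec_mul,
    Matrix.vecMul_transpose]

/-- the weight projection -/
def proj (S : Matrix (Fin n) (Fin n) F) : Module.End ℂ V :=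
  (Nat.card (symMat n F) : ℂ)⁻¹ •
    ∑ᶠ X : symMat n F, eChar F (-trMap S X) • ρ (uEl X)

theorem proj_apply [Fintype (symMat n F)] (S : Matrix (Fin n) (Fin n) F) (v : V) :
    proj ρ S v = (Nat.card (symMat n F) : ℂ)⁻¹ •
      ∑ X : symMat n F, eChar F (-trMap S X) • ρ (uEl X) v := by
  simp [proj, finsum_eq_sum_of_fintype]

theorem card_symMat_ne : (Nat.card (symMat n F) : ℂ) ≠ 0 :=
  Nat.cast_ne_zero.mpr Nat.card_pos.ne'

theorem proj_mem (S : Matrix (Fin n) (Fin n) F) (v : V) : proj ρ S v ∈ wtSpace ρ S := by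
  classical
  intro X
  rw [proj_apply ρ, map_smul, map_sum, smul_comm (eChar F (trMap S X))]
  congr 1
  rw [Finset.smul_sum]
  refine Fintype.sum_equiv (Equiv.addLeft X) _ _ fun Y => ?_
  rw [Equiv.coe_addLeft, map_smul, smul_smul, ← Module.End.mul_apply, ← map_mul, uEl_mul, map_add,
    neg_add, AddChar.map_add_eq_mul, ← mul_assoc, ← AddChar.map_add_eq_mul, add_neg_cancel,
    AddChar.map_zero_eq_one, one_mul]

theorem proj_of_mem_self {S : Matrix (Fin n) (Fin n) F} {v : V} (hv : v ∈ wtSpace ρ S) :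
    proj ρ S v = v := by
  classical
  rw [proj_apply ρ]
  simp only [mem_wtSpace ρ |>.mp hv, smul_smul, ← AddChar.map_add_eq_mul, neg_add_cancel,
    AddChar.map_zero_eq_one, mul_one, Finset.sum_const, Finset.card_univ,
    ← Nat.cast_smul_eq_nsmul ℂ, Nat.card_eq_fintype_card]
  rw [inv_mul_cancel₀ (Nat.cast_ne_zero.mpr Fintype.card_ne_zero), one_smul]

theorem proj_of_mem_ne (h2 : (2 : F) ≠ 0) {S T : Matrix (Fin n) (Fin n) F} (hS : S.IsSymm)
    (hT : T.IsSymm) (h : S ≠ T) {v : V} (hv : v ∈ wtSpace ρ T) : proj ρ S v = 0 := by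
  classical
  rw [proj_apply ρ]
  simp only [mem_wtSpace ρ |>.mp hv, smul_smul, ← Finset.sum_smul, ← AddChar.map_add_eq_mul]
  let f : symMat n F →+ F := trMap T - trMap S
  have h0 : ∑ X, eChar F (f X) = 0 := by
    refine sum_char_eq_zero _ f ?_
    obtain ⟨X, hX⟩ := exists_trMap_ne (eChar_prim F) h2 (hT.sub hS) (sub_ne_zero.mpr (Ne.symm h))
    refine ⟨X, ?_⟩
    convert hX using 2
    simp [f, trMap, sub_mul, Matrix.trace_sub]
  have : ∑ X : symMat n F, eChar F (-trMap S X + trMap T X) = 0 := by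
    rw [← h0]; exact Finset.sum_congr rfl fun X _ => by simp [f, sub_eq_neg_add]
  rw [this, mul_zero, zero_smul]

theorem sum_proj (h2 : (2 : F) ≠ 0) [Fintype (symMat n F)] (v : V) :
    ∑ S : symMat n F, proj ρ S.1 v = v := by
  classical
  simp only [proj_apply ρ, ← Finset.smul_sum]
  rw [Finset.sum_comm, Finset.sum_eq_single (0 : symMat n F)]
  · simp only [uEl_zero, map_one, Module.End.one_apply, map_zero, neg_zero, AddChar.map_zero_eq_one,
      one_smul, Finset.sum_const, Finset.card_univ, ← Nat.cast_smul_eq_nsmul ℂ, smul_smul,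
      Nat.card_eq_fintype_card]
    rw [inv_mul_cancel₀ (Nat.cast_ne_zero.mpr Fintype.card_ne_zero), one_smul]
  · intro X _ hX
    rw [← Finset.sum_smul]
    have : ∑ S : symMat n F, eChar F (-trMap S.1 X) = 0 := by
      let f : symMat n F →+ F :=
        { toFun := fun S => -trMap S.1 X
          map_zero' := by simp [trMap]
          map_add' := fun S S' => by simp [trMap, add_mul, Matrix.trace_add]; ring }
      refine sum_char_eq_zero _ f ?_
      obtain ⟨Y, hY⟩ := exists_trMap_ne (eChar_prim F) h2 (mem_symMat.mp X.2).neg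
        (fun h => hX (Subtype.ext (neg_eq_zero.mp h)))
      refine ⟨Y, ?_⟩
      show eChar F (-trMap Y.1 X) ≠ 1
      convert hY using 2
      show -((Y.1 * X.1).trace) = ((-X.1) * Y.1).trace
      rw [neg_mul, Matrix.trace_neg, Matrix.trace_mul_comm]
    rw [this, zero_smul]
  · simp

theorem lEl_mem {S : Matrix (Fin n) (Fin n) F} {v : V} (hv : v ∈ wtSpace ρ S) (g : GL (Fin n) F) :
    ρ (lEl g) v ∈ wtSpace ρ ((g : Matrix (Fin n) (Fin n) F) * S * (g : Matrix (Fin n) (Fin n) F)ᵀ) := by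
  intro X
  rw [← Module.End.mul_apply, ← map_mul, uEl_lEl, map_mul, Module.End.mul_apply,
    mem_wtSpace ρ |>.mp hv, map_smul]
  congr 2
  show (S * ((g : Matrix (Fin n) (Fin n) F)ᵀ * X.1 * (g : Matrix (Fin n) (Fin n) F))).trace =
    ((g : Matrix (Fin n) (Fin n) F) * S * (g : Matrix (Fin n) (Fin n) F)ᵀ * X.1).trace
  rw [← Matrix.mul_assoc, Matrix.trace_mul_comm, ← Matrix.mul_assoc, ← Matrix.mul_assoc]

theorem lEl_mem_vv {a : F} {x : Fin n → F} {v : V} (hv : v ∈ wtSpace ρ (vv a x))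
    (g : GL (Fin n) F) : ρ (lEl g) v ∈ wtSpace ρ (vv a ((g : Matrix (Fin n) (Fin n) F) *ᵥ x)) := by
  have := lEl_mem ρ hv g
  rwa [vv_conj] at this

/-- equivariance of the projections -/
theorem proj_lEl (h2 : (2 : F) ≠ 0) {S : Matrix (Fin n) (Fin n) F} (hS : S.IsSymm)
    (g : GL (Fin n) F) (v : V) :
    proj ρ ((g : Matrix (Fin n) (Fin n) F) * S * (g : Matrix (Fin n) (Fin n) F)ᵀ) (ρ (lEl g) v) =
      ρ (lEl g) (proj ρ S v) := by
  classical
  have hsymm : ∀ T : Matrix (Fin n) (Fin n) F, T.IsSymm →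
      ((g : Matrix (Fin n) (Fin n) F) * T * (g : Matrix (Fin n) (Fin n) F)ᵀ).IsSymm := fun T hT => by
    rw [Matrix.IsSymm, Matrix.transpose_mul, Matrix.transpose_mul, Matrix.transpose_transpose, hT.eq,
      Matrix.mul_assoc]
  conv_lhs => rw [← sum_proj ρ h2 v]
  rw [map_sum, map_sum, Finset.sum_eq_single ⟨S, hS⟩]
  · exact proj_of_mem_self ρ (lEl_mem ρ (proj_mem ρ _ v) g)
  · intro T _ hT
    refine proj_of_mem_ne ρ h2 (hsymm _ hS) (hsymm _ T.2) (fun h => hT ?_) (lEl_mem ρ (proj_mem ρ _ v) g)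
    have h' := congrArg (fun M : Matrix (Fin n) (Fin n) F => ((g⁻¹ : GL (Fin n) F) : Matrix (Fin n) (Fin n) F) *
      M * (((g⁻¹ : GL (Fin n) F) : Matrix (Fin n) (Fin n) F))ᵀ) h
    simp only [← Matrix.mul_assoc, Units.inv_mul, Matrix.one_mul] at h'
    simp only [Matrix.mul_assoc, ← Matrix.transpose_mul, Units.inv_mul, Matrix.transpose_one,
      Matrix.mul_one] at h'
    exact Subtype.ext h'.symm
  · simp

/-- the orbit of a weight bounds the dimension -/
theorem orbit_le_finrank [FiniteDimensional ℂ V] (h2 : (2 : F) ≠ 0) {S : Matrix (Fin n) (Fin n) F}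
    (hS : S.IsSymm) {v : V} (hv : v ∈ wtSpace ρ S) (hv0 : v ≠ 0) :
    (Set.range fun B : GL (Fin n) F => cong (B : Matrix (Fin n) (Fin n) F) S).ncard ≤
      Module.finrank ℂ V := by
  classical
  set O := Set.range fun B : GL (Fin n) F => cong (B : Matrix (Fin n) (Fin n) F) S
  haveI : Fintype O := Fintype.ofFinite _
  choose B hB using fun T : O => T.2
  have hBT : ∀ T : O, IsUnit ((B T : Matrix (Fin n) (Fin n) F)ᵀ) := fun T =>
    (Matrix.isUnit_transpose _).mpr (B T).isUnit
  let vec : O → V := fun T => ρ (lEl (hBT T).unit) v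
  have hmem : ∀ T : O, vec T ∈ wtSpace ρ T.1 := fun T => by
    have := lEl_mem ρ hv (hBT T).unit
    rw [IsUnit.unit_spec, Matrix.transpose_transpose] at this
    rw [← hB T]
    exact this
  have hsym : ∀ T : O, T.1.IsSymm := fun T => by rw [← hB T]; exact isSymm_cong hS _
  have hne : ∀ T, vec T ≠ 0 := fun T h => hv0 (by
    have := congrArg (ρ (lEl (hBT T).unit)⁻¹) h
    simpa [vec, ← Module.End.mul_apply, ← map_mul] using this)
  have hli : LinearIndependent ℂ vec := by
    rw [Fintype.linearIndependent_iff]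
    intro c hc T
    have := congrArg (proj ρ T.1) hc
    rw [map_sum, map_zero, Finset.sum_eq_single T] at this
    · rw [map_smul, proj_of_mem_self ρ (hmem T)] at this
      exact (smul_eq_zero.mp this).resolve_right (hne T)
    · intro T' _ hT'
      rw [map_smul, proj_of_mem_ne ρ h2 (hsym T) (hsym T') (fun h => hT' (Subtype.ext h.symm)) (hmem T'),
        smul_zero]
    · simp
  have := hli.fintype_card_le_finrank
  rwa [← Nat.card_eq_fintype_card, Nat.card_coe_set_eq] at this

/-- all weights have rank at most one -/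
def Small : Prop :=
  ∀ (S : Matrix (Fin n) (Fin n) F) (v : V), S.IsSymm → v ∈ wtSpace ρ S → v ≠ 0 → IsLine S

theorem small_of_finrank [FiniteDimensional ℂ V] (hn : 1 ≤ n) (hq : 3 ≤ Fintype.card F)
    (h2 : (2 : F) ≠ 0)
    (hd : 2 * (Fintype.card F + 1) * Module.finrank ℂ V <
      (Fintype.card F ^ n - 1) * (Fintype.card F ^ n - Fintype.card F)) : Small ρ := by
  intro S v hS hv hv0
  by_contra h
  have h1 := orbit_ge hn hq h2 hS h
  have h3 := orbit_le_finrank ρ h2 hS hv hv0
  exact absurd (h1.trans (Nat.mul_le_mul_left _ h3)) (not_le.mpr hd)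

theorem Small.prod {ρ : Representation ℂ (Matrix.symplecticGroup (Fin n) F) V} {W : Type*} [AddCommGroup W] [Module ℂ W]
    {σ : Representation ℂ (Matrix.symplecticGroup (Fin n) F) W} (hρ : Small ρ) (hσ : Small σ) :
    Small (ρ.prod σ) := by
  intro S v hS hv hv0
  by_cases h : v.1 = 0
  · refine hσ S v.2 hS (fun X => congrArg Prod.snd (hv X)) fun h' => hv0 (Prod.ext h h')
  · exact hρ S v.1 hS (fun X => congrArg Prod.fst (hv X)) h

end

end Cfsg.Agent.H53.Weil
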